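import Cfsg.Agent.OEightThree.Packed
import Cfsg.Agent.OEightThree.Data

/-!
# Verified certificates for the classes of elements of order three in `PΩ⁺(8, 3)`
-/

set_option autoImplicit false
set_option Elab.async false
set_option maxRecDepth 20000
set_option maxHeartbeats 0

open Matrix

namespace Cfsg.OEightThree

/-- Unpacks a word. -/
def unpack : ℕ → ℕ → List ℕ
  | 0, _ => []
  | fuel + 1, n => if Nat.beq n 0 then [] else (n % 64 - 1) :: unpack fuel (n / 64)

/-- A word from its code. -/
def word (n : ℕ) : List ℕ := unpack 40 n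

/-- The formal inverse. -/
def winv (w : List ℕ) : List ℕ := (w.map fun l => if Nat.beq (l % 2) 0 then l + 1 else l - 1).reverse

/-- The letters are valid. -/
def wok (w : List ℕ) : Bool := w.all fun l => Nat.blt l 48

/-- A conjugation `x = w r w⁻¹`. -/
def okConj (x r w : List ℕ) : Bool :=
  wok x && (wok r && (wok w && peq (ropW w (evW x)) (lopW w (evW r))))

/-- Two words of the same value. -/
def okEqual (x y : List ℕ) : Bool := wok x && (wok y && peq (evW x) (evW y))

/-- Images of the nodes. -/
def nodeImg (sw : Bool) (r : ℕ) : ℕ :=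
  if sw then [0, 0, 0, 0, 0, 5, 0, 0, 0, 9, 11, 10, 13, 12, 14, 0, 0, 0, 18].getD r 0
  else [0, 0, 0, 0, 0, 10, 0, 0, 0, 9, 11, 5, 18, 12, 14, 0, 0, 0, 13].getD r 0

/-- The graph automorphisms on letters. -/
def gmap (sw : Bool) (w : List ℕ) : List ℕ := w.map fun l => 2 * nodeImg sw (l / 2) + l % 2

/-- A simple letter. -/
def simpleLetter (l : ℕ) : Bool := [5, 9, 10, 11, 12, 13, 14, 18].contains (l / 2)

/-- A representative. -/
def repW (i : ℕ) : List ℕ := repTab.getD i []

/-- Its images under the powers of the automorphism of order three. -/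
def twW : ℕ → ℕ → List ℕ
  | 0, i => repW i
  | k + 1, i => gmap false (twW k i)

/-- The check of a representative. -/
def okRep (i : ℕ) : Bool :=
  ((List.range 3).all fun k => (twW k i).all simpleLetter) &&
    ((okEqual (repW i ++ repW i ++ repW i) [] && okEqual (twW 1 i ++ twW 1 i ++ twW 1 i) []) &&
      (okEqual (twW 2 i ++ twW 2 i ++ twW 2 i) [] && !(peq (pnormalise (evW (repW i))) (pnormalise pone)) &&
        okConj (winv (repW i)) (repW i) (word (invTab.getD i 0))))

/-- The check of the images of a representative. -/
def okAut (i : ℕ) : Bool :=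
  (Nat.blt (tauTab.getD i (0, 0)).1 13 &&
      okConj (gmap false (repW i)) (repW (tauTab.getD i (0, 0)).1) (word (tauTab.getD i (0, 0)).2)) &&
    (Nat.blt (sigTab.getD i (0, 0)).1 13 &&
      okConj (gmap true (repW i)) (repW (sigTab.getD i (0, 0)).1) (word (sigTab.getD i (0, 0)).2))

/-- Digits of a code, as letters of the roots from `off`. -/
def digitsW (off code : ℕ) : List ℕ :=
  (List.range 6).flatMap fun k =>
    if Nat.beq (code / 3 ^ (5 - k) % 3) 0 then [] else [2 * (off + k) + (code / 3 ^ (5 - k) % 3 - 1)]

/-- An element of the unipotent group. -/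
def uW (u v : ℕ) : List ℕ := digitsW 12 u ++ digitsW 18 v

/-- The check of the reduction of one code. -/
def okRed (u : ℕ) : Bool :=
  let e := redTab.getD u (0, 0)
  Nat.blt e.1 7 && ((word e.2).all fun l => Nat.ble 18 l && Nat.blt l 30) &&
    okConj (digitsW 12 u) (digitsW 12 (uRep.getD e.1 0)) (word e.2)

/-- The check of the class of one element. -/
def okClass (j v : ℕ) : Bool :=
  let e := (classTab.getD j []).getD v (0, 0)
  let x := uW (uRep.getD j 0) v
  if Nat.beq e.1 0 then
    wok x && (x.isEmpty || (!(peq (pnormalise (evW (x ++ x ++ x))) (pnormalise pone)) &&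
      !(peq (pnormalise (evW (x ++ x ++ x))) (pnormalise (0, 9241421688590303745)))))
  else Nat.ble e.1 13 && okConj x (repW (e.1 - 1)) (word e.2)

/-- The code after adding one to a digit. -/
def vinc (v k : ℕ) : ℕ :=
  v - v / 3 ^ (5 - k) % 3 * 3 ^ (5 - k) + (v / 3 ^ (5 - k) % 3 + 1) % 3 * 3 ^ (5 - k)

/-- The check that the abelian part is closed. -/
def okAbel (v : ℕ) : Bool :=
  (List.range 6).all fun k => Nat.blt (vinc v k) 729 &&
    okEqual (digitsW 18 v ++ [2 * (18 + k)]) (digitsW 18 (vinc v k))

/-- The check that the Levi letters normalise the abelian part. -/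
def okLevi (a k : ℕ) : Bool :=
  let l := ([28, 29, 26, 27, 24, 25, 18, 19, 20, 21, 22, 23] : List ℕ).getD a 0
  let c := leviImg.getD (6 * a + k) 729
  Nat.blt c 729 && okEqual ([l, 2 * (18 + k)] ++ winv [l]) (digitsW 18 c)

theorem rep_checks : ∀ i < 13, okRep i = true := by decide +kernel

theorem aut_checks : ∀ i < 13, okAut i = true := by decide +kernel

theorem red_checks : ∀ u < 729, okRed u = true := by decide +kernel

theorem class_checks0 : ∀ v < 729, okClass 0 v = true := by decide +kernel

theorem class_checks1 : ∀ v < 729, okClass 1 v = true := by decide +kernel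

theorem class_checks2 : ∀ v < 729, okClass 2 v = true := by decide +kernel

theorem class_checks3 : ∀ v < 729, okClass 3 v = true := by decide +kernel

theorem class_checks4 : ∀ v < 729, okClass 4 v = true := by decide +kernel

theorem class_checks5 : ∀ v < 729, okClass 5 v = true := by decide +kernel

theorem class_checks6 : ∀ v < 729, okClass 6 v = true := by decide +kernel

theorem abel_checks : ∀ v < 729, okAbel v = true := by decide +kernel

theorem levi_checks : ∀ a < 12, ∀ k < 6, okLevi a k = true := by decide +kernel

end Cfsg.OEightThree
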