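import Cfsg.Agent.OEightThree.Reduce

/-!
# The thirteen classes and the action of the graph automorphisms
-/

set_option autoImplicit false
set_option maxRecDepth 20000
set_option linter.style.haveILetI false

open Matrix Cfsg.Lie

namespace Cfsg.OEightThree

open Cfsg.Lib.Classical.AutOrders Cfsg.Lib.Chev Cfsg.Lib.Known.ChevAut Cfsg.Lib.OrthOut.Eight

theorem tabs_ex : ∃ (L : List ℕ) (T : List (List ℤ)), Tabs chevD4 D4.cert L T := by
  obtain ⟨a, b, c, d, e⟩ := more_D4
  exact ⟨_, _, ⟨str, okNeg_D4, opp_D4, a, D4.ht, Cfsg.Lib.Known.okChar_of_mem (D := chevD4) (by simp), b, c, d, e⟩⟩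

theorem tabs : Tabs chevD4 D4.cert (Classical.choose tabs_ex) (Classical.choose (Classical.choose_spec tabs_ex)) :=
  Classical.choose_spec (Classical.choose_spec tabs_ex)

/-- The graph automorphisms. -/
noncomputable def psi3 : Equiv.Perm (Fin 3) →* MulAut P :=
  MonoidHom.mk' (fun π => (eD.symm.trans (gr (F := ZMod 3) tabs π)).trans eD) fun π ρ => by
    refine MulEquiv.ext fun x => ?_
    rw [MulAut.mul_apply]
    simp only [MulEquiv.trans_apply, MulEquiv.symm_apply_apply, map_mul, MulAut.mul_apply]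

theorem psi3_eD (π : Equiv.Perm (Fin 3)) (x : Ch) : psi3 π (eD x) = eD (gr (F := ZMod 3) tabs π x) :=
  congrArg (fun y => eD (gr (F := ZMod 3) tabs π y)) (eD.symm_apply_apply x)

attribute [irreducible] psi3

/-- The permutation behind a flag. -/
def gperm (b : Bool) : Equiv.Perm (Fin 3) := if b then Equiv.swap 1 2 else finRotate 3

theorem node_table : ∀ b : Bool, ∀ r < 24, simpleLetter (2 * r) = true → ∃ i : Fin chevD4.rank,
    (r = chevD4.simple i ∧ nodeImg b r = chevD4.simple (iota (gperm b) i).val) ∨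
    (r = chevD4.neg (chevD4.simple i) ∧ nodeImg b r = chevD4.neg (chevD4.simple (iota (gperm b) i).val)) := by
  decide +kernel

theorem simpleLetter_half (l : ℕ) : simpleLetter (2 * (l / 2)) = simpleLetter l := by
  simp [simpleLetter]

theorem simple_lt_48 {l : ℕ} (h : simpleLetter l = true) : l < 48 := by
  simp only [simpleLetter, List.contains_iff_mem, List.mem_cons, List.not_mem_nil, or_false] at h
  omega

theorem simple_gmap : ∀ b : Bool, ∀ l < 48, simpleLetter l = true → simpleLetter (2 * nodeImg b (l / 2) + l % 2) = true := by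
  decide +kernel

theorem psi3_letter (b : Bool) {l : ℕ} (h : simpleLetter l = true) :
    psi3 (gperm b) (pW [l]) = pW [2 * nodeImg b (l / 2) + l % 2] := by
  have hl := simple_lt_48 h
  have hl' := simple_lt_48 (simple_gmap b l hl h)
  have e1 : ∀ m < 48, pW [m] = eD (cl m) := fun m hm => by
    have h1 : cW [m] = cl m := by rw [cW, List.map_singleton, List.prod_singleton]
    rw [← eD_cW (w := [m]) (fun x hx => by rw [List.mem_singleton] at hx; subst hx; exact hm), h1]
  rw [e1 l hl, e1 _ hl', psi3_eD]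
  refine congrArg eD ?_
  have ha : (2 * nodeImg b (l / 2) + l % 2) / 2 = nodeImg b (l / 2) := by omega
  have hb : (2 * nodeImg b (l / 2) + l % 2) % 2 = l % 2 := by omega
  obtain ⟨i, hi⟩ := node_table b (l / 2) (by omega) (by rw [simpleLetter_half]; exact h)
  have hg := (gr_mem (F := ZMod 3) tabs (gperm b)).2 i ((l % 2 + 1 : ℕ) : ZMod 3)
  rcases hi with ⟨h1, h2⟩ | ⟨h1, h2⟩
  · have ea : cl l = gp (F := ZMod 3) tabs.str i ((l % 2 + 1 : ℕ) : ZMod 3) := by
      refine Subtype.ext ?_
      simp only [cl, gp, h1]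
    rw [ea, hg.1]
    refine Subtype.ext ?_
    simp only [cl, gp]
    rw [ha, hb, h2]
  · have ea : cl l = gm (F := ZMod 3) tabs.str i ((l % 2 + 1 : ℕ) : ZMod 3) := by
      refine Subtype.ext ?_
      simp only [cl, gm, h1]
    rw [ea, hg.2]
    refine Subtype.ext ?_
    simp only [cl, gm]
    rw [ha, hb, h2]

theorem psi3_word (b : Bool) : ∀ {w : List ℕ}, w.all simpleLetter = true → psi3 (gperm b) (pW w) = pW (gmap b w)
  | [], _ => by simp [gmap, pW_nil]
  | l :: w, h => by
    rw [List.all_cons, Bool.and_eq_true] at h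
    have e : gmap b (l :: w) = [2 * nodeImg b (l / 2) + l % 2] ++ gmap b w := rfl
    rw [← List.singleton_append, pW_append, map_mul, psi3_letter b h.1, psi3_word b h.2, List.singleton_append, e,
      pW_append]

/-- Conjugacy in the simple group. -/
def Conj (x y : P) : Prop := ∃ g : P, g * x * g⁻¹ = y

theorem Conj.refl (x : P) : Conj x x := ⟨1, by simp⟩

theorem Conj.symm {x y : P} (h : Conj x y) : Conj y x := by
  obtain ⟨g, rfl⟩ := h; exact ⟨g⁻¹, by group⟩

theorem Conj.trans {x y z : P} (h : Conj x y) (h' : Conj y z) : Conj x z := by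
  obtain ⟨g, rfl⟩ := h; obtain ⟨g', rfl⟩ := h'; exact ⟨g' * g, by group⟩

theorem Conj.map {x y : P} (h : Conj x y) (φ : MulAut P) : Conj (φ x) (φ y) := by
  obtain ⟨g, rfl⟩ := h; exact ⟨φ g, by simp⟩

theorem conj_of_okConj {x r w : List ℕ} (h : okConj x r w = true) : Conj (pW x) (pW r) :=
  ⟨(pW w)⁻¹, by rw [pW_conj h]; group⟩

theorem rep_facts {i : ℕ} (hi : i < 13) :
    (∀ k < 3, (twW k i).all simpleLetter = true) ∧ (∀ k < 3, okEqual (twW k i ++ twW k i ++ twW k i) [] = true) ∧
      rep i ≠ 1 ∧ Conj (rep i)⁻¹ (rep i) := by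
  have h := rep_checks i hi
  simp only [okRep, Bool.and_eq_true, Bool.not_eq_true'] at h
  obtain ⟨hs, ⟨h0, h1⟩, ⟨h2, hne⟩, hinv⟩ := h
  have hs' : ∀ k < 3, (twW k i).all simpleLetter = true := fun k hk => List.all_eq_true.1 hs k (List.mem_range.2 hk)
  have hw : ∀ k < 3, wok (twW k i) = true := fun k hk => List.all_eq_true.2 fun l hl =>
    Nat.ble_eq_true_of_le (simple_lt_48 (List.all_eq_true.1 (hs' k hk) l hl))
  refine ⟨hs', fun k hk => ?_, fun e => ?_, ?_⟩
  · interval_cases k
    exacts [h0, h1, h2]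
  · have hw0 : wok (repW i) = true := hw 0 (by norm_num)
    have h3 : mt (sW (repW i ++ repW i ++ repW i)) = 1 := by
      have := h0
      rw [okEqual, Bool.and_eq_true, Bool.and_eq_true] at this
      rw [mt_word this.1, peq_eq this.2.2]
      exact dec_pone
    rw [sW_append, sW_append, mt_mul, mt_mul, ← pow_three'] at h3
    have hq : mt (sW (repW i)) = mt (1 : ↥Om) := mt_eq_of_cube e h3 (by rw [mt_one, one_pow])
    rw [mt_one, mt_word hw0] at hq
    rw [pnormalise_eq (hq.trans dec_pone.symm), peq_self] at hne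
    exact Bool.noConfusion hne
  · show Conj (pW (repW i))⁻¹ _
    rw [← pW_winv (w := repW i) (wok_lt (hw 0 (by norm_num)))]
    exact conj_of_okConj hinv

theorem orderOf_rep {i : ℕ} (hi : i < 13) : orderOf (rep i) = 3 := by
  obtain ⟨-, h, hne, -⟩ := rep_facts hi
  haveI : Fact (Nat.Prime 3) := ⟨Nat.prime_three⟩
  refine orderOf_eq_prime ?_ hne
  have := pW_congr (h 0 (by norm_num))
  rw [pW_append, pW_append, pW_nil] at this
  rw [← this, pow_three', rep]
  rfl

theorem twist_eq {i : ℕ} (hi : i < 13) : ∀ k < 3, ((psi3 (gperm false)) ^ k) (rep i) = pW (twW k i) := by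
  intro k hk
  induction k with
  | zero => rfl
  | succ k ih =>
    rw [pow_succ', MulAut.mul_apply, ih (by omega), psi3_word false ((rep_facts hi).1 k (by omega))]
    rfl

/-! ### Invariants -/

/-- A property of the lift of order three. -/
def Lifted (pr : Mat → Prop) (x : P) : Prop := ∃ s : ↥Om, QuotientGroup.mk s = x ∧ mt s ^ 3 = 1 ∧ pr (mt s)

/-- Properties invariant under isometries. -/
def Invariant (pr : Mat → Prop) : Prop := ∀ g s : ↥Om, pr (mt s) → pr (mt (g * s * g⁻¹))

theorem sub_one_conj (g s : ↥Om) : mt (g * s * g⁻¹) - 1 = mt g * (mt s - 1) * mt g⁻¹ := by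
  rw [Matrix.mul_sub, Matrix.sub_mul, Matrix.mul_one, ← mt_mul g g⁻¹, mul_inv_cancel, mt_one, mt_mul, mt_mul]

theorem inv_mul_mt (g : ↥Om) : mt g⁻¹ * mt g = 1 := by rw [← mt_mul, inv_mul_cancel, mt_one]

theorem predVal_invariant (c : ZMod 3) : Invariant (PredVal c) := by
  rintro g s ⟨v, hv⟩
  refine ⟨mt g *ᵥ v, ?_⟩
  rw [sub_one_conj, Matrix.mulVec_mulVec, Matrix.mul_assoc, inv_mul_mt, Matrix.mul_one, ← Matrix.mulVec_mulVec,
    qf_mt, hv]

theorem predIso_invariant : Invariant PredIso := by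
  rintro g s ⟨v, hv, hq⟩
  refine ⟨mt g *ᵥ v, fun h => hv ?_, ?_⟩
  · have e : (mt (g * s * g⁻¹) - 1) * (mt (g * s * g⁻¹) - 1) * mt g = mt g * ((mt s - 1) * (mt s - 1)) := by
      rw [sub_one_conj]
      simp only [Matrix.mul_assoc]
      rw [← Matrix.mul_assoc (mt g⁻¹) (mt g), inv_mul_mt, Matrix.one_mul, Matrix.mul_one]
    rw [Matrix.mulVec_mulVec, e, ← Matrix.mulVec_mulVec] at h
    have := congrArg (mt g⁻¹ *ᵥ ·) h
    simpa [Matrix.mulVec_mulVec, ← Matrix.mul_assoc, inv_mul_mt] using this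
  · rw [sub_one_conj, Matrix.mulVec_mulVec, Matrix.mul_assoc, inv_mul_mt, Matrix.mul_one, ← Matrix.mulVec_mulVec,
      qf_mt, hq]

theorem Lifted.conj {pr : Mat → Prop} (hpr : Invariant pr) {x y : P} (h : Conj x y) (hx : Lifted pr x) :
    Lifted pr y := by
  obtain ⟨g, rfl⟩ := h
  obtain ⟨s, rfl, h3, hs⟩ := hx
  obtain ⟨t, rfl⟩ := QuotientGroup.mk_surjective g
  refine ⟨t * s * t⁻¹, rfl, ?_, hpr t s hs⟩
  rw [← mt_pow, conj_pow, mt_mul, mt_mul, mt_pow, h3, Matrix.mul_one, ← mt_mul, mul_inv_cancel, mt_one]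

theorem lifted_twist {pr : Mat → Prop} {i k : ℕ} (hi : i < 13) (hk : k < 3) :
    Lifted pr (((psi3 (gperm false)) ^ k) (rep i)) ↔ pr (dec (evW (twW k i))) := by
  rw [twist_eq hi k hk]
  have hw : wok (twW k i) = true := List.all_eq_true.2 fun l hl =>
    Nat.ble_eq_true_of_le (simple_lt_48 (List.all_eq_true.1 ((rep_facts hi).1 k hk) l hl))
  have h3 : mt (sW (twW k i)) ^ 3 = 1 := by
    have := (rep_facts hi).2.1 k hk
    rw [okEqual, Bool.and_eq_true, Bool.and_eq_true] at this
    rw [pow_three', ← mt_mul, ← mt_mul, ← sW_append, ← sW_append, mt_word this.1, peq_eq this.2.2]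
    exact dec_pone
  constructor
  · rintro ⟨s, hs, hs3, hp⟩
    rwa [mt_eq_of_cube hs hs3 h3, mt_word hw] at hp
  · exact fun hp => ⟨sW (twW k i), rfl, h3, by rwa [mt_word hw]⟩

theorem rep_inj {i j : ℕ} (hi : i < 13) (hj : j < 13) (h : Conj (rep i) (rep j)) : i = j := by
  by_contra hne
  have iff_ : ∀ {pr : Mat → Prop}, Invariant pr → ∀ k < 3,
      (pr (dec (evW (twW k i))) ↔ pr (dec (evW (twW k j)))) := by
    intro pr hpr k hk
    rw [← lifted_twist (pr := pr) hi hk, ← lifted_twist (pr := pr) hj hk]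
    exact ⟨Lifted.conj hpr (h.map _), Lifted.conj hpr (h.map _).symm⟩
  by_cases hp : ({i, j} : Finset ℕ) = {11, 12}
  · have hi' : i = 11 ∨ i = 12 := by
      have : i ∈ ({i, j} : Finset ℕ) := Finset.mem_insert_self _ _
      rw [hp] at this
      simpa using this
    have hj' : j = 11 ∨ j = 12 := by
      have : j ∈ ({i, j} : Finset ℕ) := Finset.mem_insert_of_mem (Finset.mem_singleton_self _)
      rw [hp] at this
      simpa using this
    have e := iff_ predIso_invariant 0 (by norm_num)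
    rcases hi' with rfl | rfl <;> rcases hj' with rfl | rfl
    · exact hne rfl
    · exact iso_twelve (e.1 iso_eleven)
    · exact iso_twelve (e.2 iso_eleven)
    · exact hne rfl
  · obtain ⟨k, hk, c, hc, hv⟩ := val_separate i hi j hj hne hp
    have hc' : c + 1 = 1 ∨ c + 1 = 2 := by omega
    have h1 := val_spec hi hk hc'
    have h2 := val_spec hj hk hc'
    rw [Nat.add_sub_cancel] at h1 h2
    exact hv (Bool.eq_iff_iff.2 ((h1.symm.trans (iff_ (predVal_invariant _) k hk)).trans h2))

/-! ### Fusion under the graph automorphisms -/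

/-- The image of a class. -/
def classImg (b : Bool) (i : ℕ) : ℕ := if b then (sigTab.getD i (0, 0)).1 else (tauTab.getD i (0, 0)).1

theorem classImg_lt {b : Bool} {i : ℕ} (hi : i < 13) : classImg b i < 13 := by
  have h := aut_checks i hi
  simp only [okAut, Bool.and_eq_true] at h
  cases b
  exacts [Nat.le_of_ble_eq_true h.1.1, Nat.le_of_ble_eq_true h.2.1]

theorem psi3_rep (b : Bool) {i : ℕ} (hi : i < 13) : Conj (psi3 (gperm b) (rep i)) (rep (classImg b i)) := by
  have h := aut_checks i hi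
  simp only [okAut, Bool.and_eq_true] at h
  have hs : (repW i).all simpleLetter = true := (rep_facts hi).1 0 (by norm_num)
  rw [rep, psi3_word b hs]
  cases b
  exacts [conj_of_okConj h.1.2, conj_of_okConj h.2.2]

end Cfsg.OEightThree
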