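import Cfsg.Agent.OrthEightThreeSThree
import Cfsg.Agent.OEightThree.Classes

/-!
# Classes of subgroups of order three of `PΩ⁺(8, 3)` and of its extensions by the symmetric group of degree three
-/

set_option autoImplicit false
set_option maxRecDepth 20000
set_option linter.style.haveILetI false

open Equiv

namespace Cfsg.OEightThree

open Cfsg.Lib.OrthOut.Eight

theorem zpowers_map {G H : Type*} [Group G] [Group H] (f : G →* H) (x : G) :
    (Subgroup.zpowers x).map f = Subgroup.zpowers (f x) := MonoidHom.map_zpowers f x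

theorem eq_or_inv_of_zpowers {G : Type*} [Group G] {x y : G} (hy : orderOf y = 3) (hx : x ≠ 1)
    (h : x ∈ Subgroup.zpowers y) : x = y ∨ x = y⁻¹ := by
  obtain ⟨k, rfl⟩ := Subgroup.mem_zpowers_iff.1 h
  rw [← zpow_mod_orderOf, hy] at hx ⊢
  have h1 := Int.emod_nonneg k (show ((3 : ℕ) : ℤ) ≠ 0 by norm_num)
  have h2 := Int.emod_lt_of_pos k (show (0 : ℤ) < ((3 : ℕ) : ℤ) by norm_num)
  have : k % ((3 : ℕ) : ℤ) = 0 ∨ k % ((3 : ℕ) : ℤ) = 1 ∨ k % ((3 : ℕ) : ℤ) = 2 := by omega
  rcases this with e | e | e <;> rw [e] at hx ⊢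
  · exact absurd (zpow_zero y) hx
  · exact Or.inl (zpow_one y)
  · refine Or.inr (eq_inv_of_mul_eq_one_left ?_)
    rw [← zpow_add_one, show ((2 : ℤ) + 1) = ((3 : ℕ) : ℤ) by norm_num, zpow_natCast, ← hy, pow_orderOf_eq_one]

theorem exists_gen {G : Type*} [Group G] {X : Subgroup G} (hX : Nat.card X = 3) :
    ∃ x, orderOf x = 3 ∧ X = Subgroup.zpowers x := by
  haveI : Finite X := Nat.finite_of_card_ne_zero (by omega)
  haveI : Fact (Nat.Prime 3) := ⟨Nat.prime_three⟩
  obtain ⟨x, hx⟩ := exists_prime_orderOf_dvd_card' (G := X) 3 (by rw [hX])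
  refine ⟨x, by rw [Subgroup.orderOf_coe, hx], (Subgroup.eq_of_le_of_card_ge ?_ ?_).symm⟩
  · rw [Subgroup.zpowers_le]; exact x.2
  · rw [hX, Nat.card_zpowers, Subgroup.orderOf_coe, hx]

theorem map_conj_zpowers {G : Type*} [Group G] (g x : G) :
    (Subgroup.zpowers x).map (MulAut.conj g).toMonoidHom = Subgroup.zpowers (g * x * g⁻¹) :=
  zpowers_map _ x

theorem conj_of_pm {x : P} {j : ℕ} (hj : j < 13) (h : x = rep j ∨ x = (rep j)⁻¹) : Conj x (rep j) := by
  rcases h with rfl | rfl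
  exacts [Conj.refl _, (rep_facts hj).2.2.2]

/-- The classes in the simple group. -/
theorem classes_simple : ∃ Y : Fin 13 → Subgroup P, (∀ i, Nat.card (Y i) = 3) ∧
    (∀ i j, (∃ g : P, (Y i).map (MulAut.conj g).toMonoidHom = Y j) → i = j) ∧
    (∀ X : Subgroup P, Nat.card X = 3 → ∃ i, ∃ g : P, X.map (MulAut.conj g).toMonoidHom = Y i) := by
  refine ⟨fun i => Subgroup.zpowers (rep i), fun i => by rw [Nat.card_zpowers, orderOf_rep i.2], ?_, ?_⟩
  · rintro i j ⟨g, hg⟩
    rw [map_conj_zpowers] at hg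
    have hne : g * rep i * g⁻¹ ≠ 1 := fun e => (rep_facts i.2).2.2.1 (by rwa [conj_eq_one_iff] at e)
    have := eq_or_inv_of_zpowers (orderOf_rep j.2) hne (hg.le (Subgroup.mem_zpowers _))
    exact Fin.ext (rep_inj i.2 j.2 (Conj.trans ⟨g, rfl⟩ (conj_of_pm j.2 this)))
  · intro X hX
    obtain ⟨x, hx, rfl⟩ := exists_gen hX
    obtain ⟨i, hi, g, hg⟩ := exists_rep hx
    exact ⟨⟨i, hi⟩, g, by rw [map_conj_zpowers, hg]⟩

/-- The orbit of a class under the graph automorphisms. -/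
def orb (i : ℕ) : ℕ := [0, 1, 2, 2, 1, 2, 3, 3, 1, 3, 4, 5, 6].getD i 0

/-- A class in each orbit. -/
def orbRep (k : ℕ) : ℕ := [0, 1, 2, 6, 10, 11, 12].getD k 0

/-- Iterated images. -/
def iterImg : ℕ → ℕ → ℕ
  | 0, i => i
  | k + 1, i => classImg false (iterImg k i)

theorem orb_facts : (∀ b : Bool, ∀ i < 13, orb (classImg b i) = orb i) ∧
    (∀ k < 7, orbRep k < 13 ∧ orb (orbRep k) = k) ∧
    ∀ i < 13, orb i < 7 ∧ ∃ n < 3, iterImg n (orbRep (orb i)) = i := by decide +kernel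

theorem iterImg_lt {i : ℕ} (hi : i < 13) : ∀ n, iterImg n i < 13
  | 0 => hi
  | n + 1 => classImg_lt (iterImg_lt hi n)

theorem twist_conj {i : ℕ} (hi : i < 13) : ∀ n, Conj ((psi3 (gperm false) ^ n) (rep i)) (rep (iterImg n i))
  | 0 => Conj.refl _
  | n + 1 => by
    rw [pow_succ', MulAut.mul_apply]
    exact ((twist_conj hi n).map _).trans (psi3_rep false (iterImg_lt hi n))

/-- A permutation preserving the orbits. -/
def Good (π : Perm (Fin 3)) : Prop := ∀ i < 13, ∃ j < 13, orb j = orb i ∧ Conj (psi3 π (rep i)) (rep j)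

theorem good_all (π : Perm (Fin 3)) : Good π := by
  have hb : ∀ b, Good (gperm b) := fun b i hi => ⟨_, classImg_lt hi, orb_facts.1 b i hi, psi3_rep b hi⟩
  have h1 : Good 1 := fun i hi => ⟨i, hi, rfl, by rw [map_one]; exact Conj.refl _⟩
  have hm : ∀ {a b}, Good a → Good b → Good (a * b) := fun {a b} ha hb' i hi => by
    obtain ⟨j, hj, ej, cj⟩ := hb' i hi
    obtain ⟨k, hk, ek, ck⟩ := ha j hj
    exact ⟨k, hk, ek.trans ej, by rw [map_mul, MulAut.mul_apply]; exact (cj.map _).trans ck⟩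
  have hs : Good (swap 1 2) := hb true
  have hr : Good (finRotate 3) := hb false
  have hall : ∀ π : Perm (Fin 3), π = 1 ∨ π = swap 1 2 ∨ π = finRotate 3 ∨ π = finRotate 3 * finRotate 3 ∨
      π = swap 1 2 * finRotate 3 ∨ π = finRotate 3 * swap 1 2 := by decide +kernel
  rcases hall π with rfl | rfl | rfl | rfl | rfl | rfl
  exacts [h1, hs, hr, hm hr hr, hm hs hr, hm hr hs]

theorem conj_apply_eq (p x : P) : (MulAut.conj p : MulAut P) x = p * x * p⁻¹ := MulAut.conj_apply p x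

/-- The model of the overgroup inside the automorphism group. -/
noncomputable def R0 : Subgroup (MulAut P) :=
  (psi3.range.map (QuotientGroup.mk' (Cfsg.Inn P))).comap (QuotientGroup.mk' (Cfsg.Inn P))

theorem mem_R0 {r : MulAut P} (h : r ∈ R0) : ∃ π, ∃ p : P, r = psi3 π * MulAut.conj p := by
  obtain ⟨_, ⟨π, rfl⟩, e⟩ := h
  have hm : (psi3 π)⁻¹ * r ∈ Cfsg.Inn P := QuotientGroup.eq.1 e
  obtain ⟨p, hp⟩ := hm
  exact ⟨π, p, by rw [hp, mul_inv_cancel_left]⟩

theorem psi3_mem_R0 (π : Perm (Fin 3)) (p : P) : psi3 π * MulAut.conj p ∈ R0 :=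
  ⟨psi3 π, ⟨π, rfl⟩, QuotientGroup.eq.2 (by rw [inv_mul_cancel_left]; exact ⟨p, rfl⟩)⟩

theorem psi3_out_injective : Function.Injective ((QuotientGroup.mk' (Cfsg.Inn P)).comp psi3) := by
  refine (injective_iff_map_eq_one _).2 fun π hπ => ?_
  obtain ⟨p, hp⟩ := (QuotientGroup.eq_one_iff _).1 hπ
  have hg : gr (F := ZMod 3) tabs π = MulAut.conj (eD.symm p) := MulEquiv.ext fun x => eD.injective (by
    rw [← psi3_eD, ← hp, conj_apply_eq, MulAut.conj_apply, map_mul, map_mul, map_inv, eD.apply_symm_apply])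
  have h1 : psi (F := ZMod 3) tabs (π, 1) = 1 := by
    rw [psi_apply, map_one, mul_one, hg]
    exact (QuotientGroup.eq_one_iff _).2 ⟨eD.symm p, rfl⟩
  exact congrArg Prod.fst (psi_injective (F := ZMod 3) tabs (h1.trans (map_one _).symm))

theorem card_R0 : Nat.card (R0.map (QuotientGroup.mk' (Cfsg.Inn P))) = 6 := by
  rw [R0, Subgroup.map_comap_eq_self_of_surjective (QuotientGroup.mk'_surjective _), MonoidHom.map_range,
    ← Nat.card_congr (MonoidHom.ofInjective psi3_out_injective).toEquiv, card_end_perm]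

theorem inn_le_R0 : Cfsg.Inn P ≤ R0 := fun x hx =>
  ⟨1, one_mem _, by rw [map_one, QuotientGroup.mk'_apply, (QuotientGroup.eq_one_iff x).2 hx]⟩

/-- Seven classes up to the model. -/
theorem classes_model : (∀ k k', k < 7 → k' < 7 → ∀ r ∈ R0,
      (r (rep (orbRep k)) = rep (orbRep k') ∨ r (rep (orbRep k)) = (rep (orbRep k'))⁻¹) → k = k') ∧
    ∀ x : P, orderOf x = 3 → ∃ k < 7, ∃ r ∈ R0, r (rep (orbRep k)) = x := by
  obtain ⟨-, hrep, hreach⟩ := orb_facts
  constructor
  · intro k k' hk hk' r hr h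
    obtain ⟨π, p, rfl⟩ := mem_R0 hr
    obtain ⟨hi, ei⟩ := hrep k hk
    obtain ⟨hj, ej⟩ := hrep k' hk'
    obtain ⟨j, hj', ejo, cj⟩ := good_all π _ hi
    have c1 : Conj (psi3 π (rep (orbRep k))) ((psi3 π * MulAut.conj p) (rep (orbRep k))) :=
      Conj.map ⟨p, (conj_apply_eq p _).symm⟩ _
    have := rep_inj hj' hj (cj.symm.trans (c1.trans (conj_of_pm hj h)))
    rw [this] at ejo
    rw [← ei, ← ejo, ej]
  · intro x hx
    obtain ⟨i, hi, g, hg⟩ := exists_rep hx
    obtain ⟨hk, n, -, hn⟩ := hreach i hi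
    obtain ⟨hok, -⟩ := hrep _ hk
    have hc : Conj ((psi3 (gperm false) ^ n) (rep (orbRep (orb i)))) x := by
      have := twist_conj hok n
      rw [hn] at this
      exact this.trans (Conj.symm ⟨g, hg⟩)
    rw [← map_pow] at hc
    obtain ⟨q, hq⟩ := hc
    refine ⟨orb i, hk, psi3 (gperm false ^ n) * MulAut.conj ((psi3 (gperm false ^ n))⁻¹ q), psi3_mem_R0 _ _, ?_⟩
    rw [MulAut.mul_apply, conj_apply_eq, map_mul, map_mul, map_inv, MulAut.apply_inv_self, hq]

theorem lift_conj {M : Type*} [Group M] (N : Subgroup M) [N.Normal] (A B : Subgroup M) (a : M) (hA : N ≤ A)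
    (hB : N ≤ B)
    (h : (A.map (QuotientGroup.mk' N)).map (MulAut.conj (QuotientGroup.mk' N a)).toMonoidHom =
      B.map (QuotientGroup.mk' N)) : A.map (MulAut.conj a).toMonoidHom = B := by
  have hk : (QuotientGroup.mk' N).ker = N := QuotientGroup.ker_mk' _
  have hle : N ≤ A.map (MulAut.conj a).toMonoidHom := fun x hx =>
    ⟨a⁻¹ * x * a, hA (by simpa using (inferInstance : N.Normal).conj_mem x hx a⁻¹), by simp [mul_assoc]⟩
  have e1 := Subgroup.comap_map_eq_self (f := QuotientGroup.mk' N) (hk.symm ▸ hle)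
  have e2 := Subgroup.comap_map_eq_self (f := QuotientGroup.mk' N) (hk.symm ▸ hB)
  rw [← e1, ← e2, ← h, Subgroup.map_map, Subgroup.map_map]
  congr 2

theorem conj_apply_apply {M : Type*} [Group M] (a r : MulAut M) (x : M) :
    (MulAut.conj a).toMonoidHom r (a x) = a (r x) := by
  show (a * r * a⁻¹) (a x) = a (r x)
  rw [MulAut.mul_apply, MulAut.mul_apply, MulAut.inv_apply_self]

/-- The statement on the extensions. -/
theorem main {G : Type*} [Group G] [Finite G] (L : Subgroup G) (hL : L = Cfsg.generalizedFittingSubgroup G)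
    (hF : Nonempty (↥L ≃* P)) [hn : L.Normal] (hq : Nonempty (G ⧸ L ≃* Perm (Fin 3))) :
    ∃ Y : Fin 7 → Subgroup G, (∀ i, Y i ≤ L ∧ Nat.card (Y i) = 3) ∧
      (∀ i j, (∃ g : G, (Y i).map (MulAut.conj g).toMonoidHom = Y j) → i = j) ∧
      ∀ X : Subgroup G, X ≤ L → Nat.card X = 3 → ∃ i, ∃ g : G, X.map (MulAut.conj g).toMonoidHom = Y i := by
  have hcl : Subgroup.centralizer (L : Set G) ≤ L := by subst hL; exact Cfsg.Agent.S1265.result
  obtain ⟨e⟩ := hF
  obtain ⟨eq⟩ := hq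
  let j : G →* MulAut P := (MulAut.congr e).toMonoidHom.comp MulAut.conjNormal
  have hj : ∀ (g : G) (a : P), j g a = e (MulAut.conjNormal g (e.symm a)) := fun g a => rfl
  have hLj : ∀ l : L, j l = MulAut.conj (e l) := fun l => MulEquiv.ext fun a => by
    rw [hj, MulAut.conj_apply]
    have : MulAut.conjNormal (l : G) (e.symm a) = l * e.symm a * l⁻¹ := Subtype.ext (by simp)
    rw [this, map_mul, map_mul, map_inv, e.apply_symm_apply]
  have hker : ((QuotientGroup.mk' (Cfsg.Inn P)).comp j).ker = L := by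
    ext g
    rw [MonoidHom.mem_ker, MonoidHom.comp_apply, QuotientGroup.mk'_apply, QuotientGroup.eq_one_iff]
    constructor
    · rintro ⟨p, hp⟩
      obtain ⟨l, rfl⟩ := e.surjective p
      have h1 : j ((l : G)⁻¹ * g) = 1 := by rw [map_mul, map_inv, ← hp, hLj, inv_mul_cancel]
      have h2 : (l : G)⁻¹ * g ∈ Subgroup.centralizer (L : Set G) := Subgroup.mem_centralizer_iff.2 fun m hm => by
        have h3 := congrArg (fun φ : MulAut P => e.symm (φ (e ⟨m, hm⟩))) h1
        simp only [hj, MulEquiv.symm_apply_apply, MulAut.one_apply] at h3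
        have h4 := congrArg Subtype.val h3
        rw [MulAut.conjNormal_apply, mul_inv_eq_iff_eq_mul] at h4
        exact h4.symm
      have h5 : (l : G)⁻¹ * g ∈ L := hcl h2
      simpa using mul_mem l.2 h5
    · intro hg
      exact ⟨e ⟨g, hg⟩, (hLj ⟨g, hg⟩).symm⟩
  have hInn : Cfsg.Inn P ≤ j.range := by
    rintro _ ⟨p, rfl⟩
    exact ⟨e.symm p, by rw [hLj, e.apply_symm_apply]⟩
  have hcard : Nat.card (j.range.map (QuotientGroup.mk' (Cfsg.Inn P))) = 6 := by
    rw [MonoidHom.map_range, ← Subgroup.index_ker, hker, Subgroup.index, Nat.card_congr eq.toEquiv,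
      Nat.card_perm, Nat.card_fin]
    rfl
  obtain ⟨f⟩ := Cfsg.OrthEightThree.outEquivPermFour
  obtain ⟨o, ho⟩ := Cfsg.OrthEightThree.conj_six f _ _ card_R0 hcard
  obtain ⟨a, rfl⟩ := QuotientGroup.mk'_surjective (Cfsg.Inn P) o
  have hr : R0.map (MulAut.conj a).toMonoidHom = j.range := lift_conj _ _ _ a inn_le_R0 hInn ho
  obtain ⟨hinj, hcov⟩ := classes_model
  let t : ℕ → G := fun k => ((e.symm (a (rep (orbRep k))) : L) : G)
  have ht : ∀ k < 7, orderOf (t k) = 3 := fun k hk => by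
    simp only [t, Subgroup.orderOf_coe, MulEquiv.orderOf_eq, orderOf_rep (orb_facts.2.1 k hk).1]
  have hact : ∀ (g : G) (k : ℕ), e (MulAut.conjNormal g (e.symm (a (rep (orbRep k))))) = j g (a (rep (orbRep k))) :=
    fun g k => (hj g _).symm
  refine ⟨fun i => Subgroup.zpowers (t i), fun i => ⟨?_, by rw [Nat.card_zpowers, ht i i.2]⟩, ?_, ?_⟩
  · rw [Subgroup.zpowers_le]; exact SetLike.coe_mem _
  · rintro i i' ⟨g, hg⟩
    rw [map_conj_zpowers] at hg
    have hne : g * t i * g⁻¹ ≠ 1 := fun h => by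
      rw [conj_eq_one_iff] at h
      have := ht i i.2
      rw [h, orderOf_one] at this
      omega
    have h3 := eq_or_inv_of_zpowers (ht i' i'.2) hne (hg.le (Subgroup.mem_zpowers _))
    have h4 : j g (a (rep (orbRep i))) = a (rep (orbRep i')) ∨ j g (a (rep (orbRep i))) = (a (rep (orbRep i')))⁻¹ := by
      rcases h3 with h | h
      · left
        rw [← hact, show MulAut.conjNormal g (e.symm (a (rep (orbRep i)))) = e.symm (a (rep (orbRep i'))) from
          Subtype.ext (by rw [MulAut.conjNormal_apply]; exact h), e.apply_symm_apply]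
      · right
        rw [← hact, show MulAut.conjNormal g (e.symm (a (rep (orbRep i)))) = (e.symm (a (rep (orbRep i'))))⁻¹ from
          Subtype.ext (by rw [MulAut.conjNormal_apply, Subgroup.coe_inv]; exact h), map_inv, e.apply_symm_apply]
    obtain ⟨r, hrR, hre⟩ : j g ∈ R0.map (MulAut.conj a).toMonoidHom := hr.ge ⟨g, rfl⟩
    rw [← hre, conj_apply_apply] at h4
    refine Fin.ext (hinj _ _ i.2 i'.2 r hrR ?_)
    rcases h4 with h | h
    · exact Or.inl (a.injective h)
    · exact Or.inr (a.injective (h.trans (map_inv a _).symm))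
  · intro X hXL hX
    obtain ⟨x, hx, rfl⟩ := exists_gen hX
    have hxL : x ∈ L := hXL (Subgroup.mem_zpowers x)
    have hox : orderOf (a⁻¹ (e ⟨x, hxL⟩)) = 3 := by
      rw [MulEquiv.orderOf_eq, MulEquiv.orderOf_eq, Subgroup.orderOf_mk, hx]
    obtain ⟨k, hk, r, hrR, hre⟩ := hcov _ hox
    obtain ⟨g, hg⟩ : (MulAut.conj a).toMonoidHom r ∈ j.range := hr.le (Subgroup.mem_map_of_mem _ hrR)
    have h1 : j g (a (rep (orbRep k))) = e ⟨x, hxL⟩ := by
      rw [hg, conj_apply_apply, hre, MulAut.apply_inv_self]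
    refine ⟨⟨k, hk⟩, g⁻¹, ?_⟩
    rw [map_conj_zpowers]
    congr 1
    rw [← hact, EmbeddingLike.apply_eq_iff_eq] at h1
    have h2 := congrArg Subtype.val h1
    rw [MulAut.conjNormal_apply] at h2
    show g⁻¹ * x * g⁻¹⁻¹ = t k
    rw [show x = g * t k * g⁻¹ from h2.symm]
    group

end Cfsg.OEightThree
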