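import Cfsg.Agent.OEightThree.Checks

/-!
# Values of the quadratic form on images of displacements
-/

set_option autoImplicit false
set_option maxRecDepth 20000
set_option maxHeartbeats 0

open Matrix

namespace Cfsg.OEightThree

/-- The form. -/
abbrev qf : (Fin 4 ⊕ Fin 4 → ZMod 3) → ZMod 3 := Cfsg.quadFormPlus 4 (ZMod 3)

/-- Matrices of degree eight. -/
abbrev Mat : Type := Matrix (Fin 4 ⊕ Fin 4) (Fin 4 ⊕ Fin 4) (ZMod 3)

/-- The form takes the value `c` on the image of the displacement. -/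
def PredVal (c : ZMod 3) (M : Mat) : Prop := ∃ v, qf ((M - 1) *ᵥ v) = c

/-- The form vanishes on an image with a nonzero second image. -/
def PredIso (M : Mat) : Prop := ∃ v, ((M - 1) * (M - 1)) *ᵥ v ≠ 0 ∧ qf ((M - 1) *ᵥ v) = 0

/-- The symmetrised form of a matrix. -/
def symB (d : Mat) (a b : Fin 4 ⊕ Fin 4) : ZMod 3 :=
  ∑ i : Fin 4, (d (Sum.inl i) a * d (Sum.inr i) b + d (Sum.inl i) b * d (Sum.inr i) a)

theorem two_qf (d : Mat) (v : Fin 4 ⊕ Fin 4 → ZMod 3) :
    2 * qf (d *ᵥ v) = ∑ a, ∑ b, v a * v b * symB d a b := by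
  have h : ∀ i : Fin 4, 2 * ((d *ᵥ v) (Sum.inl i) * (d *ᵥ v) (Sum.inr i)) =
      ∑ a, ∑ b, v a * v b * (d (Sum.inl i) a * d (Sum.inr i) b + d (Sum.inl i) b * d (Sum.inr i) a) := by
    intro i
    simp only [Matrix.mulVec, dotProduct, mul_add, Finset.sum_add_distrib, two_mul]
    congr 1
    · rw [Finset.sum_mul_sum]
      exact Finset.sum_congr rfl fun a _ => Finset.sum_congr rfl fun b _ => by ring
    · rw [Finset.sum_mul_sum, Finset.sum_comm]
      exact Finset.sum_congr rfl fun a _ => Finset.sum_congr rfl fun b _ => by ring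
  rw [qf, Cfsg.quadFormPlus, Finset.mul_sum, Finset.sum_congr rfl fun i _ => h i, Finset.sum_comm]
  refine Finset.sum_congr rfl fun a _ => ?_
  rw [Finset.sum_comm]
  refine Finset.sum_congr rfl fun b _ => ?_
  rw [symB, Finset.mul_sum]

theorem not_predVal {c k : ZMod 3} {M : Mat} {w : Fin 4 ⊕ Fin 4 → ZMod 3}
    (hS : ∀ a b, symB (M - 1) a b = k * w a * w b) (hc : c ≠ 0) (hk : 2 * k ≠ c) : ¬ PredVal c M := by
  rintro ⟨v, hv⟩
  have h := two_qf (M - 1) v
  rw [hv] at h
  have e : ∑ a, ∑ b, v a * v b * symB (M - 1) a b = k * ((∑ a, v a * w a) * ∑ a, v a * w a) := by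
    rw [Finset.sum_mul_sum, Finset.mul_sum]
    refine Finset.sum_congr rfl fun a _ => ?_
    rw [Finset.mul_sum]
    exact Finset.sum_congr rfl fun b _ => by rw [hS]; ring
  rw [e] at h
  have key : ∀ c k s : ZMod 3, c ≠ 0 → 2 * k ≠ c → 2 * c ≠ k * (s * s) := by decide
  exact key c k _ hc hk h

theorem not_predIso {M : Mat} {a b x y : Fin 4 ⊕ Fin 4 → ZMod 3}
    (hS : ∀ i j, symB (M - 1) i j = a i * a j + b i * b j)
    (h2 : ∀ i j, ((M - 1) * (M - 1)) i j = x i * a j + y i * b j) : ¬ PredIso M := by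
  rintro ⟨v, hv, hq⟩
  have h := two_qf (M - 1) v
  rw [hq, mul_zero] at h
  have e : ∑ i, ∑ j, v i * v j * symB (M - 1) i j =
      (∑ i, v i * a i) * (∑ i, v i * a i) + (∑ i, v i * b i) * ∑ i, v i * b i := by
    rw [Finset.sum_mul_sum, Finset.sum_mul_sum, ← Finset.sum_add_distrib]
    refine Finset.sum_congr rfl fun i _ => ?_
    rw [← Finset.sum_add_distrib]
    exact Finset.sum_congr rfl fun j _ => by rw [hS]; ring
  rw [e] at h
  have key : ∀ s t : ZMod 3, 0 = s * s + t * t → s = 0 ∧ t = 0 := by decide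
  obtain ⟨hs, ht⟩ := key _ _ h
  refine hv (funext fun i => ?_)
  show ∑ j, ((M - 1) * (M - 1)) i j * v j = 0
  calc ∑ j, ((M - 1) * (M - 1)) i j * v j = x i * (∑ j, v j * a j) + y i * ∑ j, v j * b j := by
        rw [Finset.mul_sum, Finset.mul_sum, ← Finset.sum_add_distrib]
        exact Finset.sum_congr rfl fun j _ => by rw [h2]; ring
    _ = 0 := by rw [hs, ht]; ring

/-- A vector from its code. -/
def vec (n : ℕ) : Fin 4 ⊕ Fin 4 → ZMod 3 := fun x => ((n / 3 ^ pos x % 3 : ℕ) : ZMod 3)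

/-- The certificate of one value. -/
def ValOk (i k c : ℕ) : Prop :=
  let e := valTab.getD (6 * i + 2 * k + (c - 1)) (true, 0, 0)
  let M := dec (evW (twW k i))
  if e.1 = true then qf ((M - 1) *ᵥ vec e.2.1) = (c : ZMod 3)
  else (∀ a b, symB (M - 1) a b = (e.2.2 : ZMod 3) * vec e.2.1 a * vec e.2.1 b) ∧
    2 * (e.2.2 : ZMod 3) ≠ (c : ZMod 3)

instance (i k c : ℕ) : Decidable (ValOk i k c) := by
  unfold ValOk
  dsimp only
  infer_instance

theorem val_checks : ∀ i < 13, ∀ k < 3, ValOk i k 1 ∧ ValOk i k 2 := by decide +kernel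

theorem val_spec {i k c : ℕ} (hi : i < 13) (hk : k < 3) (hc : c = 1 ∨ c = 2) :
    PredVal (c : ZMod 3) (dec (evW (twW k i))) ↔
      (valTab.getD (6 * i + 2 * k + (c - 1)) (true, 0, 0)).1 = true := by
  have h : ValOk i k c := by
    rcases hc with rfl | rfl
    exacts [(val_checks i hi k hk).1, (val_checks i hi k hk).2]
  unfold ValOk at h
  dsimp only at h
  by_cases hb : (valTab.getD (6 * i + 2 * k + (c - 1)) (true, 0, 0)).1 = true
  · rw [if_pos hb] at h
    exact ⟨fun _ => hb, fun _ => ⟨_, h⟩⟩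
  · rw [if_neg hb] at h
    refine ⟨fun hp => absurd hp (not_predVal h.1 ?_ h.2), fun hp => absurd hp hb⟩
    rcases hc with rfl | rfl <;> decide

theorem iso_eleven : PredIso (dec (evW (twW 0 11))) := ⟨vec isoWit, by decide +kernel⟩

theorem iso_twelve : ¬ PredIso (dec (evW (twW 0 12))) :=
  not_predIso (a := vec anisoCert.1) (b := vec anisoCert.2.1) (x := vec anisoCert.2.2.1)
    (y := vec anisoCert.2.2.2) (by decide +kernel) (by decide +kernel)

/-- The values separate the representatives other than the last two. -/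
theorem val_separate : ∀ i < 13, ∀ j < 13, i ≠ j → ({i, j} : Finset ℕ) ≠ {11, 12} →
    ∃ k < 3, ∃ c < 2, (valTab.getD (6 * i + 2 * k + c) (true, 0, 0)).1 ≠
      (valTab.getD (6 * j + 2 * k + c) (true, 0, 0)).1 := by decide +kernel

end Cfsg.OEightThree
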