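import Cfsg.Agent.Classical.AutOrders.D4RootIso
import Cfsg.Agent.Known.OrthOut.PlusEight
import Cfsg.Agent.OEightThree.Values

/-!
# Words in the root elements of `PΩ⁺(8, 3)`
-/

set_option autoImplicit false
set_option maxRecDepth 20000

open Matrix Cfsg.Lie

namespace Cfsg.OEightThree

open Cfsg.Lib.Classical.AutOrders Cfsg.Lib.Classical.RootWords Cfsg.Lib.Chev Cfsg.Lib.Known.ChevAut

/-- The simple group. -/
abbrev P : Type := Cfsg.POmega (ZMod 3) (Cfsg.quadFormPlus 4 (ZMod 3))

/-- Its covering group. -/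
abbrev Om : Subgroup (Cfsg.isometryGroup (ZMod 3) (Cfsg.quadFormPlus 4 (ZMod 3))) :=
  Cfsg.Omega (ZMod 3) (Cfsg.quadFormPlus 4 (ZMod 3))

/-- The Chevalley group. -/
abbrev Ch : Type := ↥(chevD4.group (ZMod 3))

theorem str : Struct chevD4 D4.cert := ⟨D4.ok, D4.okChain_, D4.okBase_all, okOrder_D4⟩

/-- The matrix of an element of the covering group. -/
def mt (s : ↥Om) : Mat := ((s.1.1 : GL (Fin 4 ⊕ Fin 4) (ZMod 3)) : Mat)

theorem mt_mul (s t : ↥Om) : mt (s * t) = mt s * mt t := rfl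

theorem mt_one : mt 1 = 1 := rfl

theorem mt_inj {s t : ↥Om} (h : mt s = mt t) : s = t := Subtype.ext (Subtype.ext (Units.ext h))

theorem mt_pow (s : ↥Om) (n : ℕ) : mt (s ^ n) = mt s ^ n := by
  induction n with
  | zero => rw [pow_zero, pow_zero, mt_one]
  | succ n ih => rw [pow_succ, pow_succ, mt_mul, ih]

theorem qf_mt (s : ↥Om) (v : Fin 4 ⊕ Fin 4 → ZMod 3) : qf (mt s *ᵥ v) = qf v := s.1.2 v v

/-- The isomorphism with values on root elements. -/
noncomputable def eD : Ch ≃* P := Classical.choose (exists_root_iso_D4 (F := ZMod 3))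

/-- A letter in the Chevalley group. -/
noncomputable def cl (l : ℕ) : Ch :=
  ⟨str.ok.xG (l / 2) ((l % 2 + 1 : ℕ) : ZMod 3), str.ok.xG_mem_group _ _⟩

theorem exists_sl {l : ℕ} (hl : l < 48) : ∃ s : ↥Om, mt s = lmat l ∧ eD (cl l) = QuotientGroup.mk s :=
  Classical.choose_spec (exists_root_iso_D4 (F := ZMod 3)) (l / 2) (by omega) _ (cl l) (str.ok.val_xG _ _)

attribute [irreducible] eD

/-- A letter in the covering group. -/
noncomputable def sl (l : ℕ) : ↥Om := if h : l < 48 then Classical.choose (exists_sl h) else 1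

theorem mt_sl {l : ℕ} (hl : l < 48) : mt (sl l) = lmat l := by
  rw [sl, dif_pos hl]; exact (Classical.choose_spec (exists_sl hl)).1

theorem eD_cl {l : ℕ} (hl : l < 48) : eD (cl l) = QuotientGroup.mk (sl l) := by
  rw [sl, dif_pos hl]; exact (Classical.choose_spec (exists_sl hl)).2

/-- A word in the covering group. -/
noncomputable def sW (w : List ℕ) : ↥Om := (w.map sl).prod

/-- A word in the Chevalley group. -/
noncomputable def cW (w : List ℕ) : Ch := (w.map cl).prod

/-- A word in the simple group. -/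
noncomputable def pW (w : List ℕ) : P := QuotientGroup.mk (sW w)

theorem wok_lt {w : List ℕ} (h : wok w = true) : ∀ l ∈ w, l < 48 := fun l hl =>
  Nat.le_of_ble_eq_true (List.all_eq_true.1 h l hl)

theorem mt_sW : ∀ {w : List ℕ}, (∀ l ∈ w, l < 48) → mt (sW w) = wmat w
  | [], _ => mt_one
  | l :: w, h => by
    rw [sW, List.map_cons, List.prod_cons, mt_mul, ← sW, mt_sW fun x hx => h x (List.mem_cons_of_mem _ hx),
      mt_sl (h l List.mem_cons_self), wmat]

theorem eD_cW : ∀ {w : List ℕ}, (∀ l ∈ w, l < 48) → eD (cW w) = pW w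
  | [], _ => map_one eD
  | l :: w, h => by
    rw [cW, List.map_cons, List.prod_cons, map_mul, ← cW, eD_cW fun x hx => h x (List.mem_cons_of_mem _ hx),
      eD_cl (h l List.mem_cons_self)]
    rfl

theorem pW_append (u w : List ℕ) : pW (u ++ w) = pW u * pW w := by
  simp only [pW, sW, List.map_append, List.prod_append]
  rfl

theorem pW_nil : pW [] = 1 := rfl

theorem sW_append (u w : List ℕ) : sW (u ++ w) = sW u * sW w := by
  simp only [sW, List.map_append, List.prod_append]

theorem mt_word {w : List ℕ} (h : wok w = true) : mt (sW w) = dec (evW w) := by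
  rw [mt_sW (wok_lt h), dec_evW (wok_lt h)]

theorem pW_congr {x y : List ℕ} (h : okEqual x y = true) : pW x = pW y := by
  rw [okEqual, Bool.and_eq_true, Bool.and_eq_true] at h
  exact congrArg QuotientGroup.mk (mt_inj (by rw [mt_word h.1, mt_word h.2.1, peq_eq h.2.2]))

theorem pW_conj {x r w : List ℕ} (h : okConj x r w = true) : pW x = pW w * pW r * (pW w)⁻¹ := by
  rw [okConj, Bool.and_eq_true, Bool.and_eq_true, Bool.and_eq_true] at h
  obtain ⟨hx, hr, hw, he⟩ := h
  have e : sW (x ++ w) = sW (w ++ r) := mt_inj (by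
    have h1 := congrArg dec (peq_eq he)
    rw [dec_ropW (wok_lt hw), dec_lopW (wok_lt hw), dec_evW (wok_lt hx), dec_evW (wok_lt hr)] at h1
    rw [sW_append, sW_append, mt_mul, mt_mul, mt_sW (wok_lt hx), mt_sW (wok_lt hw), mt_sW (wok_lt hr), h1])
  have e' : pW x * pW w = pW w * pW r := by rw [← pW_append, ← pW_append, pW, pW, e]
  rw [← e', mul_inv_cancel_right]

theorem letter_inv : ∀ l < 48, okEqual ((if Nat.beq (l % 2) 0 then l + 1 else l - 1) :: [l]) [] = true := by
  decide +kernel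

theorem pW_winv : ∀ {w : List ℕ}, (∀ l ∈ w, l < 48) → pW (winv w) = (pW w)⁻¹
  | [], _ => by rw [pW_nil, inv_one]; rfl
  | l :: w, h => by
    have e := pW_congr (letter_inv l (h l List.mem_cons_self))
    rw [← List.singleton_append, pW_append, pW_nil] at e
    have e1 : winv (l :: w) = winv w ++ [if Nat.beq (l % 2) 0 then l + 1 else l - 1] := by
      simp [winv]
    rw [e1, pW_append, pW_winv (fun x hx => h x (List.mem_cons_of_mem _ hx)), eq_inv_of_mul_eq_one_left e,
      ← List.singleton_append (l := w), pW_append, _root_.mul_inv_rev]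

/-! ### The centre -/

theorem center_sign {z : ↥Om} (hz : z ∈ Subgroup.center ↥Om) : mt z = 1 ∨ mt z = -1 := by
  have key : ∀ (Q : QuadraticForm (ZMod 3) (Fin 4 ⊕ Fin 4 → ZMod 3)),
      (QuadraticMap.polarBilin Q).Nondegenerate → ∀ (f : (Fin 4 ⊕ Fin 4 → ZMod 3) → ZMod 3), ⇑Q = f →
      ∀ z : ↥(Cfsg.Omega (ZMod 3) f), z ∈ Subgroup.center ↥(Cfsg.Omega (ZMod 3) f) →
        ((z.1.1 : GL (Fin 4 ⊕ Fin 4) (ZMod 3)) : Mat) = 1 ∨ ((z.1.1 : GL (Fin 4 ⊕ Fin 4) (ZMod 3)) : Mat) = -1 := by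
    rintro Q hQ f rfl z hz
    exact (Cfsg.Lib.Classical.Refl.mem_center_iff_sign Q hQ (by simp)).1 hz
  exact key _ (Cfsg.Lib.Classical.HypQuad.plusForm_nondegenerate 4) _
    (funext (Cfsg.Lib.Classical.HypQuad.plusForm_apply 4)) z hz

theorem mt_of_mk_eq {s t : ↥Om} (h : (QuotientGroup.mk s : P) = QuotientGroup.mk t) :
    mt s = mt t ∨ mt s = -mt t := by
  have hz : t⁻¹ * s ∈ Subgroup.center ↥Om := QuotientGroup.eq.1 h.symm
  have e : s = t * (t⁻¹ * s) := (mul_inv_cancel_left t s).symm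
  rcases center_sign hz with hh | hh
  · left; rw [e, mt_mul, hh, Matrix.mul_one]
  · right; rw [e, mt_mul, hh, Matrix.mul_neg, Matrix.mul_one]

theorem mt_eq_of_cube {s t : ↥Om} (h : (QuotientGroup.mk s : P) = QuotientGroup.mk t) (hs : mt s ^ 3 = 1)
    (ht : mt t ^ 3 = 1) : mt s = mt t := by
  rcases mt_of_mk_eq h with e | e
  · exact e
  · exfalso
    rw [e, neg_pow, ht] at hs
    exact absurd hs (by decide +kernel)

end Cfsg.OEightThree
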