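import Cfsg.Agent.Classical.AutOrders.D4Iso

/-!
# Matrices of degree eight over the field of three elements, packed into two masks
-/

set_option autoImplicit false

open Matrix

namespace Cfsg.OEightThree

open Cfsg.Lib.Classical.AutOrders Cfsg.Lib.Classical.RootWords

/-- A value in the field of three elements from two bits. -/
def tv (a b : Bool) : ZMod 3 := (if a then 1 else 0) - (if b then 1 else 0)

/-- The position `8 i + j` of a packed matrix. -/
def get (m : ℕ × ℕ) (k : ℕ) : ZMod 3 := tv (m.1.testBit k) (m.2.testBit k)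

/-- Entrywise sum. -/
def madd (a b : ℕ × ℕ) : ℕ × ℕ :=
  let p := a.1 ^^^ (a.1 &&& a.2)
  let n := a.2 ^^^ (a.1 &&& a.2)
  let p' := b.1 ^^^ (b.1 &&& b.2)
  let n' := b.2 ^^^ (b.1 &&& b.2)
  let z := p ||| n
  let z' := p' ||| n'
  (((p ^^^ (p &&& z')) ||| (p' ^^^ (p' &&& z))) ||| (n &&& n'),
    ((n ^^^ (n &&& z')) ||| (n' ^^^ (n' &&& z))) ||| (p &&& p'))

theorem get_madd (a b : ℕ × ℕ) (k : ℕ) : get (madd a b) k = get a k + get b k := by
  simp only [get, madd, Nat.testBit_xor, Nat.testBit_and, Nat.testBit_or]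
  cases a.1.testBit k <;> cases a.2.testBit k <;> cases b.1.testBit k <;> cases b.2.testBit k <;> rfl

/-- Negation when the sign is two. -/
def signed (c : ℕ) (m : ℕ × ℕ) : ℕ × ℕ := if Nat.beq c 1 then m else (m.2, m.1)

theorem get_signed {c : ℕ} (hc : c = 1 ∨ c = 2) (m : ℕ × ℕ) (k : ℕ) :
    get (signed c m) k = (c : ZMod 3) * get m k := by
  rcases hc with rfl | rfl
  · simp [signed]
  · show tv (m.2.testBit k) (m.1.testBit k) = ((2 : ℕ) : ZMod 3) * tv (m.1.testBit k) (m.2.testBit k)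
    cases m.1.testBit k <;> cases m.2.testBit k <;> decide

/-- Row `b` moved to row `a`. -/
def pickRow (a b x : ℕ) : ℕ := ((x >>> (8 * b)) &&& 255) <<< (8 * a)

/-- The bits at the first column. -/
def colMask : ℕ := 72340172838076673

/-- Column `a` moved to column `b`. -/
def pickCol (a b x : ℕ) : ℕ := ((x >>> a) &&& colMask) <<< b

/-- `m + c • (e_{ab} m)`. -/
def rowOp (m : ℕ × ℕ) (a b c : ℕ) : ℕ × ℕ := madd m (signed c (pickRow a b m.1, pickRow a b m.2))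

/-- `m + c • (m e_{ab})`. -/
def colOp (m : ℕ × ℕ) (a b c : ℕ) : ℕ × ℕ := madd m (signed c (pickCol a b m.1, pickCol a b m.2))

theorem testBit_pickRow {a b i j : ℕ} (hj : j < 8) (x : ℕ) :
    (pickRow a b x).testBit (8 * i + j) = (decide (i = a) && x.testBit (8 * b + j)) := by
  rw [pickRow, Nat.testBit_shiftLeft, Nat.testBit_and, show (255 : ℕ) = 2 ^ 8 - 1 by rfl,
    Nat.testBit_two_pow_sub_one, Nat.testBit_shiftRight]
  by_cases h : i = a
  · subst h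
    simp [hj]
  · rw [decide_eq_false h, Bool.false_and]
    by_cases h' : 8 * a ≤ 8 * i + j
    · have : ¬ 8 * i + j - 8 * a < 8 := by omega
      simp [this]
    · simp [h']

theorem colMask_bit : ∀ k < 64, colMask.testBit k = decide (k % 8 = 0) := by decide +kernel

theorem testBit_pickCol {a b i j : ℕ} (hb : b < 8) (hi : i < 8) (hj : j < 8) (x : ℕ) :
    (pickCol a b x).testBit (8 * i + j) = (decide (j = b) && x.testBit (8 * i + a)) := by
  rw [pickCol, Nat.testBit_shiftLeft, Nat.testBit_and, Nat.testBit_shiftRight]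
  by_cases h' : b ≤ 8 * i + j
  · rw [colMask_bit _ (by omega)]
    by_cases h : j = b
    · subst h
      have h1 : 8 * i + j - j = 8 * i := by omega
      have h2 : a + 8 * i = 8 * i + a := by omega
      simp [h1, h2]
    · have : ¬ (8 * i + j - b) % 8 = 0 := by omega
      simp [h, this]
  · have : ¬ j = b := by omega
    simp [h', this]

/-- The position of an index. -/
def pos : Fin 4 ⊕ Fin 4 → ℕ := Sum.elim (fun i => i.val) fun i => 4 + i.val

theorem pos_lt (x : Fin 4 ⊕ Fin 4) : pos x < 8 := by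
  rcases x with i | i <;> simp [pos] <;> omega

theorem pos_inj {x y : Fin 4 ⊕ Fin 4} (h : pos x = pos y) : x = y := by
  rcases x with i | i <;> rcases y with j | j <;> simp [pos] at h ⊢ <;> omega

/-- The matrix. -/
def dec (m : ℕ × ℕ) : Matrix (Fin 4 ⊕ Fin 4) (Fin 4 ⊕ Fin 4) (ZMod 3) :=
  Matrix.of fun i j => get m (8 * pos i + pos j)

theorem dec_rowOp (m : ℕ × ℕ) (a b : Fin 4 ⊕ Fin 4) {c : ℕ} (hc : c = 1 ∨ c = 2) :
    dec (rowOp m (pos a) (pos b) c) = (1 + Matrix.single a b (c : ZMod 3)) * dec m := by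
  ext i j
  rw [Matrix.add_mul, Matrix.one_mul, Matrix.add_apply]
  simp only [dec, Matrix.of_apply, rowOp, get_madd, get_signed hc]
  congr 1
  rw [get, testBit_pickRow (pos_lt j), testBit_pickRow (pos_lt j)]
  by_cases h : i = a
  · subst h
    rw [Matrix.single_mul_apply_same]
    simp [get]
  · rw [Matrix.single_mul_apply_of_ne _ _ _ _ _ h, decide_eq_false fun e => h (pos_inj e)]
    simp [tv]

theorem dec_colOp (m : ℕ × ℕ) (a b : Fin 4 ⊕ Fin 4) {c : ℕ} (hc : c = 1 ∨ c = 2) :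
    dec (colOp m (pos a) (pos b) c) = dec m * (1 + Matrix.single a b (c : ZMod 3)) := by
  ext i j
  rw [Matrix.mul_add, Matrix.mul_one, Matrix.add_apply]
  simp only [dec, Matrix.of_apply, colOp, get_madd, get_signed hc]
  congr 1
  rw [get, testBit_pickCol (pos_lt b) (pos_lt i) (pos_lt j), testBit_pickCol (pos_lt b) (pos_lt i) (pos_lt j)]
  by_cases h : j = b
  · subst h
    rw [Matrix.mul_single_apply_same, mul_comm]
    simp [get]
  · rw [Matrix.mul_single_apply_of_ne _ _ _ _ _ h, decide_eq_false fun e => h (pos_inj e)]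
    simp [tv]

/-- The two entries of each root element. -/
def rootTab : List ((ℕ × ℕ × ℕ) × (ℕ × ℕ × ℕ)) :=
  [((4, 1, 2), (5, 0, 1)), ((4, 2, 2), (6, 0, 1)), ((3, 0, 1), (4, 7, 2)), ((4, 3, 2), (7, 0, 1)),
    ((2, 0, 2), (4, 6, 1)), ((1, 0, 1), (4, 5, 2)), ((5, 2, 1), (6, 1, 2)), ((3, 1, 2), (5, 7, 1)),
    ((5, 3, 1), (7, 1, 2)), ((2, 1, 1), (5, 6, 2)), ((3, 2, 1), (6, 7, 2)), ((6, 3, 2), (7, 2, 1)),
    ((2, 7, 1), (3, 6, 2)), ((2, 3, 1), (7, 6, 2)), ((1, 2, 1), (6, 5, 2)), ((1, 7, 2), (3, 5, 1)),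
    ((1, 3, 2), (7, 5, 1)), ((1, 6, 2), (2, 5, 1)), ((0, 1, 1), (5, 4, 2)), ((0, 2, 2), (6, 4, 1)),
    ((0, 7, 1), (3, 4, 2)), ((0, 3, 1), (7, 4, 2)), ((0, 6, 1), (2, 4, 2)), ((0, 5, 1), (1, 4, 2))]

/-- Entry number, the sign times the parameter. -/
def sgn (c t : ℕ) : ℕ := c * t % 3

/-- Left multiplication by a letter. -/
def lop (l : ℕ) (m : ℕ × ℕ) : ℕ × ℕ :=
  let e := rootTab.getD (l / 2) ((0, 1, 1), (0, 1, 1))
  let t := l % 2 + 1
  rowOp (rowOp m e.1.1 e.1.2.1 (sgn e.1.2.2 t)) e.2.1 e.2.2.1 (sgn e.2.2.2 t)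

/-- Right multiplication by a letter. -/
def rop (l : ℕ) (m : ℕ × ℕ) : ℕ × ℕ :=
  let e := rootTab.getD (l / 2) ((0, 1, 1), (0, 1, 1))
  let t := l % 2 + 1
  colOp (colOp m e.1.1 e.1.2.1 (sgn e.1.2.2 t)) e.2.1 e.2.2.1 (sgn e.2.2.2 t)

/-- The value of a letter. -/
def lmat (l : ℕ) : Matrix (Fin 4 ⊕ Fin 4) (Fin 4 ⊕ Fin 4) (ZMod 3) :=
  gen (Int.castRingHom (ZMod 3)) orthRoots (l / 2) ((l % 2 + 1 : ℕ) : ZMod 3)

/-- The value of a word. -/
def wmat : List ℕ → Matrix (Fin 4 ⊕ Fin 4) (Fin 4 ⊕ Fin 4) (ZMod 3)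
  | [] => 1
  | l :: w => lmat l * wmat w

theorem wmat_append (u : List ℕ) : ∀ w, wmat (u ++ w) = wmat u * wmat w := by
  induction u with
  | nil => intro w; simp [wmat]
  | cons l u ih => intro w; rw [List.cons_append, wmat, wmat, ih, Matrix.mul_assoc]

/-- The index at a position. -/
def idx : ℕ → Fin 4 ⊕ Fin 4 := fun k => if k < 4 then Sum.inl (Fin.ofNat 4 k) else Sum.inr (Fin.ofNat 4 k)

theorem rootTab_ok : ∀ r < 24, ∃ e, rootTab[r]? = some e ∧
    orthRoots r = [(1, idx e.1.1, idx e.1.2.1, if e.1.2.2 = 1 then 1 else -1),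
      (1, idx e.2.1, idx e.2.2.1, if e.2.2.2 = 1 then 1 else -1)] ∧
    pos (idx e.1.1) = e.1.1 ∧ pos (idx e.1.2.1) = e.1.2.1 ∧ pos (idx e.2.1) = e.2.1 ∧
    pos (idx e.2.2.1) = e.2.2.1 ∧ e.2.1 ≠ e.1.2.1 ∧ e.2.2.1 ≠ e.1.1 ∧ (e.1.2.2 = 1 ∨ e.1.2.2 = 2) ∧
    (e.2.2.2 = 1 ∨ e.2.2.2 = 2) := by
  intro r hr
  interval_cases r <;> exact ⟨_, rfl, by decide +kernel⟩

theorem sgn_spec {c t : ℕ} (hc : c = 1 ∨ c = 2) (ht : t = 1 ∨ t = 2) :
    (sgn c t = 1 ∨ sgn c t = 2) ∧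
      ((sgn c t : ℕ) : ZMod 3) = (Int.castRingHom (ZMod 3)) (if c = 1 then 1 else -1) * (t : ZMod 3) ^ 1 := by
  rcases hc with rfl | rfl <;> rcases ht with rfl | rfl <;> decide

theorem letter_factor {l : ℕ} (hl : l < 48) : ∃ (a b a' b' : Fin 4 ⊕ Fin 4) (c c' : ℕ),
    (c = 1 ∨ c = 2) ∧ (c' = 1 ∨ c' = 2) ∧ a' ≠ b ∧ b' ≠ a ∧
    (∀ m, lop l m = rowOp (rowOp m (pos a) (pos b) c) (pos a') (pos b') c') ∧
    (∀ m, rop l m = colOp (colOp m (pos a) (pos b) c) (pos a') (pos b') c') ∧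
    lmat l = 1 + (Matrix.single a b (c : ZMod 3) + Matrix.single a' b' (c' : ZMod 3)) := by
  obtain ⟨e, he, hE, h1, h2, h3, h4, hn, hn', hc, hc'⟩ := rootTab_ok (l / 2) (by omega)
  have hd : rootTab.getD (l / 2) ((0, 1, 1), (0, 1, 1)) = e := by rw [List.getD_eq_getElem?_getD, he]; rfl
  have ht : l % 2 + 1 = 1 ∨ l % 2 + 1 = 2 := by omega
  obtain ⟨hs, hv⟩ := sgn_spec hc ht
  obtain ⟨hs', hv'⟩ := sgn_spec hc' ht
  refine ⟨idx e.1.1, idx e.1.2.1, idx e.2.1, idx e.2.2.1, _, _, hs, hs', fun h => hn ?_, fun h => hn' ?_,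
    fun m => ?_, fun m => ?_, ?_⟩
  · rw [← h3, h, h2]
  · rw [← h4, h, h1]
  · simp only [lop, hd, h1, h2, h3, h4]
  · simp only [rop, hd, h1, h2, h3, h4]
  · rw [lmat, gen, hE]
    simp only [List.map_cons, List.map_nil, List.sum_cons, List.sum_nil, add_zero, hv, hv']

theorem dec_lop {l : ℕ} (hl : l < 48) (m : ℕ × ℕ) : dec (lop l m) = lmat l * dec m := by
  obtain ⟨a, b, a', b', c, c', hc, hc', h1, h2, hop, -, hm⟩ := letter_factor hl
  rw [hop, dec_rowOp _ _ _ hc', dec_rowOp _ _ _ hc, hm, ← Matrix.mul_assoc]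
  congr 1
  rw [Matrix.add_mul, Matrix.one_mul, Matrix.mul_add, Matrix.mul_one,
    Matrix.single_mul_single_of_ne _ _ _ _ h2]
  abel

theorem dec_rop {l : ℕ} (hl : l < 48) (m : ℕ × ℕ) : dec (rop l m) = dec m * lmat l := by
  obtain ⟨a, b, a', b', c, c', hc, hc', h1, h2, -, hop, hm⟩ := letter_factor hl
  rw [hop, dec_colOp _ _ _ hc', dec_colOp _ _ _ hc, hm, Matrix.mul_assoc]
  congr 1
  rw [Matrix.add_mul, Matrix.one_mul, Matrix.mul_add, Matrix.mul_one,
    Matrix.single_mul_single_of_ne _ _ _ _ (Ne.symm h1)]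
  abel

/-- The identity. -/
def pone : ℕ × ℕ := (9241421688590303745, 0)

theorem dec_pone : dec pone = 1 := by decide +kernel

/-- A word applied from the left. -/
def lopW : List ℕ → ℕ × ℕ → ℕ × ℕ
  | [], m => m
  | l :: w, m => lop l (lopW w m)

/-- A word applied from the right. -/
def ropW : List ℕ → ℕ × ℕ → ℕ × ℕ
  | [], m => m
  | l :: w, m => ropW w (rop l m)

/-- The packed value of a word. -/
def evW (w : List ℕ) : ℕ × ℕ := lopW w pone

theorem dec_lopW : ∀ {w : List ℕ}, (∀ l ∈ w, l < 48) → ∀ m, dec (lopW w m) = wmat w * dec m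
  | [], _, m => by simp [lopW, wmat]
  | l :: w, h, m => by
    rw [lopW, dec_lop (h l (List.mem_cons_self)), dec_lopW fun x hx => h x (List.mem_cons_of_mem _ hx), wmat,
      Matrix.mul_assoc]

theorem dec_ropW : ∀ {w : List ℕ}, (∀ l ∈ w, l < 48) → ∀ m, dec (ropW w m) = dec m * wmat w
  | [], _, m => by simp [ropW, wmat]
  | l :: w, h, m => by
    rw [ropW, dec_ropW (fun x hx => h x (List.mem_cons_of_mem _ hx)), dec_rop (h l (List.mem_cons_self)), wmat,
      Matrix.mul_assoc]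

theorem dec_evW {w : List ℕ} (h : ∀ l ∈ w, l < 48) : dec (evW w) = wmat w := by
  rw [evW, dec_lopW h, dec_pone, Matrix.mul_one]

/-- The normalised masks. -/
def pnormalise (m : ℕ × ℕ) : ℕ × ℕ :=
  ((m.1 ^^^ (m.1 &&& m.2)) &&& 18446744073709551615, (m.2 ^^^ (m.1 &&& m.2)) &&& 18446744073709551615)

theorem exists_pos : ∀ k < 8, ∃ x, pos x = k := fun k hk => by
  interval_cases k
  exacts [⟨Sum.inl 0, rfl⟩, ⟨Sum.inl 1, rfl⟩, ⟨Sum.inl 2, rfl⟩, ⟨Sum.inl 3, rfl⟩, ⟨Sum.inr 0, rfl⟩, ⟨Sum.inr 1, rfl⟩,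
    ⟨Sum.inr 2, rfl⟩, ⟨Sum.inr 3, rfl⟩]

theorem tv_inj : ∀ a b c d : Bool, tv a b = tv c d → (a ^^ (a && b)) = (c ^^ (c && d)) ∧
    (b ^^ (a && b)) = (d ^^ (c && d)) := by decide

theorem pnormalise_eq {A B : ℕ × ℕ} (h : dec A = dec B) : pnormalise A = pnormalise B := by
  have hk : ∀ k < 64, get A k = get B k := fun k hk => by
    obtain ⟨x, hx⟩ := exists_pos (k / 8) (by omega)
    obtain ⟨y, hy⟩ := exists_pos (k % 8) (by omega)
    have := congrFun (congrFun h x) y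
    simp only [dec, Matrix.of_apply, hx, hy] at this
    rwa [Nat.div_add_mod] at this
  refine Prod.ext (Nat.eq_of_testBit_eq fun k => ?_) (Nat.eq_of_testBit_eq fun k => ?_) <;>
    simp only [pnormalise, Nat.testBit_and, Nat.testBit_xor,
      show (18446744073709551615 : ℕ) = 2 ^ 64 - 1 by norm_num, Nat.testBit_two_pow_sub_one] <;>
    by_cases hlt : k < 64
  · rw [(tv_inj _ _ _ _ (hk k hlt)).1]
  · simp [hlt]
  · rw [(tv_inj _ _ _ _ (hk k hlt)).2]
  · simp [hlt]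

/-- Equality of packed matrices. -/
def peq (a b : ℕ × ℕ) : Bool := Nat.beq a.1 b.1 && Nat.beq a.2 b.2

theorem peq_eq {a b : ℕ × ℕ} (h : peq a b = true) : a = b := by
  rw [peq, Bool.and_eq_true] at h
  exact Prod.ext (Nat.eq_of_beq_eq_true h.1) (Nat.eq_of_beq_eq_true h.2)

end Cfsg.OEightThree
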