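import Cfsg.Agent.S1061
import Cfsg.Agent.OEightThree.Model

/-!
# Every element of order three of `PΩ⁺(8, 3)` is conjugate to one of thirteen
-/

set_option autoImplicit false
set_option maxRecDepth 20000
set_option linter.style.haveILetI false

open Matrix Cfsg.Lie

namespace Cfsg.OEightThree

open Cfsg.Lib.Classical.AutOrders Cfsg.Lib.Chev Cfsg.Lib.Known.ChevAut

/-- The positive unipotent subgroup of the Chevalley group. -/
noncomputable def UC : Subgroup Ch := (chevD4.posUnipotent (ZMod 3)).subgroupOf (chevD4.group (ZMod 3))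

theorem posUnipotent_le : chevD4.posUnipotent (ZMod 3) ≤ chevD4.group (ZMod 3) := by
  refine (Subgroup.closure_le _).2 ?_
  rintro g ⟨r, t, hr, h⟩
  rw [str.ok.eq_xG h]
  exact str.ok.xG_mem_group r t

theorem card_UC : Nat.card ↥UC = 3 ^ 12 := by
  rw [UC, Nat.card_congr (Subgroup.subgroupOfEquivOfLe posUnipotent_le).toEquiv, str.card_posUnipotent, ZMod.card]
  congr 1

theorem index_UC : ¬ 3 ∣ UC.index := by
  have h1 := Cfsg.Agent.S1061.result (F := ZMod 3) (q := 3) (ZMod.card 3)
  rw [← UC.card_mul_index, card_UC] at h1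
  norm_num at h1
  omega

theorem exists_conj_mem_UC {x : Ch} (hx : orderOf x = 3) : ∃ g : Ch, g * x * g⁻¹ ∈ UC := by
  haveI : Fact (Nat.Prime 3) := ⟨Nat.prime_three⟩
  obtain ⟨S, hS⟩ : ∃ S : Sylow 3 Ch, (S : Subgroup Ch) = UC :=
    ⟨IsPGroup.toSylow (IsPGroup.of_card card_UC) index_UC, rfl⟩
  obtain ⟨T, hT⟩ := IsPGroup.exists_le_sylow (p := 3) (P := Subgroup.zpowers x)
    (IsPGroup.of_card (n := 1) (by rw [Nat.card_zpowers, hx, pow_one]))
  obtain ⟨g, hg⟩ := MulAction.exists_smul_eq Ch T S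
  refine ⟨g, ?_⟩
  have h : MulAut.conj g x ∈ ((g • T : Sylow 3 Ch) : Subgroup Ch) := by
    rw [Sylow.coe_subgroup_smul]
    exact Subgroup.smul_mem_pointwise_smul x _ _ (hT (Subgroup.mem_zpowers x))
  rw [hg, hS] at h
  exact h

/-! ### Normal forms -/

/-- A root element of the Chevalley group. -/
noncomputable def rootC (r : ℕ) (t : ZMod 3) : Ch := ⟨str.ok.xG r t, str.ok.xG_mem_group r t⟩

theorem rootC_zero (r : ℕ) : rootC r 0 = 1 :=
  Subtype.ext (Units.ext (by
    show ((str.ok.xG r (0 : ZMod 3) : GL chevD4.Idx (ZMod 3)) : Matrix chevD4.Idx chevD4.Idx (ZMod 3)) = _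
    rw [str.ok.val_xG, str.ok.x_zero]; rfl))

theorem prod_flatMap (f : ℕ → List ℕ) : ∀ L : List ℕ, cW (L.flatMap f) = (L.map fun k => cW (f k)).prod
  | [] => rfl
  | k :: L => by
    rw [List.flatMap_cons, List.map_cons, List.prod_cons, ← prod_flatMap f L]
    simp only [cW, List.map_append, List.prod_append]

theorem cW_digit (r : ℕ) (d : ℕ) (hd : d < 3) :
    cW (if Nat.beq d 0 then [] else [2 * r + (d - 1)]) = rootC r (d : ZMod 3) := by
  rcases Nat.eq_zero_or_pos d with rfl | hp
  · rw [Nat.cast_zero, rootC_zero]; rfl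
  · have hb : Nat.beq d 0 = false := by
      rw [← Bool.not_eq_true]
      exact fun h => by have := Nat.eq_of_beq_eq_true h; omega
    rw [hb]
    show cW [2 * r + (d - 1)] = _
    rw [cW, List.map_singleton, List.prod_singleton]
    refine Subtype.ext ?_
    show str.ok.xG ((2 * r + (d - 1)) / 2) (((2 * r + (d - 1)) % 2 + 1 : ℕ) : ZMod 3) = str.ok.xG r (d : ZMod 3)
    rw [show (2 * r + (d - 1)) / 2 = r by omega, show (2 * r + (d - 1)) % 2 + 1 = d by omega]

theorem cW_digits (off code : ℕ) :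
    cW (digitsW off code) =
      ((List.range 6).map fun k => rootC (off + k) ((code / 3 ^ (5 - k) % 3 : ℕ) : ZMod 3)).prod := by
  rw [digitsW, prod_flatMap]
  exact congrArg List.prod (List.map_congr_left fun k _ => cW_digit _ _ (Nat.mod_lt _ (by norm_num)))

/-- A code from six digits. -/
def codeOf (a : ℕ → ℕ) : ℕ := 243 * a 0 + 81 * a 1 + 27 * a 2 + 9 * a 3 + 3 * a 4 + a 5

theorem codeOf_digit (a : ℕ → ℕ) (ha : ∀ k, a k < 3) :
    codeOf a < 729 ∧ ∀ k < 6, codeOf a / 3 ^ (5 - k) % 3 = a k := by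
  have := ha 0; have := ha 1; have := ha 2; have := ha 3; have := ha 4; have := ha 5
  refine ⟨by unfold codeOf; omega, fun k hk => ?_⟩
  unfold codeOf
  interval_cases k <;> norm_num <;> omega

theorem digits_of_fun (off : ℕ) (t : ℕ → ZMod 3) :
    ∃ c < 729, cW (digitsW off c) = ((List.range 6).map fun k => rootC (off + k) (t (off + k))).prod := by
  obtain ⟨h1, h2⟩ := codeOf_digit (fun k => (t (off + k)).val) fun k => ZMod.val_lt _
  refine ⟨_, h1, (cW_digits _ _).trans (congrArg List.prod (List.map_congr_left fun k hk => ?_))⟩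
  rw [h2 k (List.mem_range.1 hk), ZMod.natCast_zmod_val]

theorem UC_word {x : Ch} (hx : x ∈ UC) : ∃ u < 729, ∃ v < 729, x = cW (uW u v) := by
  have h : (x : GL chevD4.Idx (ZMod 3)) ∈ str.Ugen (ZMod 3) 12 := by
    have h0 := str.posUnipotent_eq (F := ZMod 3)
    rw [show chevD4.nroots / 2 = 12 by rfl] at h0
    rw [← h0]
    exact hx
  obtain ⟨t, ht⟩ := str.exists_pw 12 12 (by rfl) le_rfl _ h
  obtain ⟨u, hu, eu⟩ := digits_of_fun 12 t
  obtain ⟨v, hv, ev⟩ := digits_of_fun 18 t
  refine ⟨u, hu, v, hv, Subtype.ext ?_⟩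
  rw [show cW (uW u v) = cW (digitsW 12 u) * cW (digitsW 18 v) by
    simp only [uW, cW, List.map_append, List.prod_append], eu, ev, ht]
  simp only [Struct.pw, List.range_succ, List.range_zero, List.nil_append, List.map_append, List.map_cons,
    List.map_nil, List.prod_append, List.prod_cons, List.prod_nil, Subgroup.coe_mul, Subgroup.coe_one, rootC]
  rw [show List.range' 12 (chevD4.nroots - 12) = [12, 13, 14, 15, 16, 17, 18, 19, 20, 21, 22, 23] by
    rw [show chevD4.nroots = 24 by rfl]; rfl]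
  simp only [List.map_cons, List.map_nil, List.prod_cons, List.prod_nil, mul_one, mul_assoc]

/-! ### The classes -/

theorem wok_uW : ∀ v < 729, wok (digitsW 18 v) = true ∧ wok (digitsW 12 v) = true := by decide +kernel

theorem abel_step {v : ℕ} (hv : v < 729) {k : ℕ} (hk : k < 6) :
    vinc v k < 729 ∧ pW (digitsW 18 v) * pW [2 * (18 + k)] = pW (digitsW 18 (vinc v k)) := by
  have h := List.all_eq_true.1 (abel_checks v hv) k (List.mem_range.2 hk)
  rw [Bool.and_eq_true] at h
  exact ⟨Nat.le_of_ble_eq_true h.1, by rw [← pW_append]; exact pW_congr h.2⟩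

/-- The abelian part. -/
noncomputable def Vp : Subgroup P := Subgroup.closure {x | ∃ k < 6, x = pW [2 * (18 + k)]}

theorem gen_mem_Vp {k : ℕ} (hk : k < 6) : pW [2 * (18 + k)] ∈ Vp := Subgroup.subset_closure ⟨k, hk, rfl⟩

theorem eq_digits_of_mem_Vp {x : P} (hx : x ∈ Vp) : ∃ v < 729, x = pW (digitsW 18 v) := by
  have key : ∀ y ∈ Vp, ∀ v < 729, ∃ v' < 729, pW (digitsW 18 v) * y = pW (digitsW 18 v') := by
    intro y hy
    rw [Vp, ← Subgroup.mem_toSubmonoid, Subgroup.closure_toSubmonoid_of_finite] at hy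
    induction hy using Submonoid.closure_induction with
    | mem z hz =>
      obtain ⟨k, hk, rfl⟩ := hz
      exact fun v hv => ⟨_, abel_step hv hk⟩
    | one => exact fun v hv => ⟨v, hv, mul_one _⟩
    | mul a b _ _ iha ihb =>
      intro v hv
      obtain ⟨v', hv', e⟩ := iha v hv
      obtain ⟨v'', hv'', e'⟩ := ihb v' hv'
      exact ⟨v'', hv'', by rw [← mul_assoc, e, e']⟩
  obtain ⟨v, hv, e⟩ := key x hx 0 (by norm_num)
  exact ⟨v, hv, by rw [← e, show digitsW 18 0 = [] from rfl, pW_nil, one_mul]⟩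

theorem letters_mem (l : ℕ) (h : 18 ≤ l) (h' : l < 30) :
    ∃ a < 12, ([28, 29, 26, 27, 24, 25, 18, 19, 20, 21, 22, 23] : List ℕ).getD a 0 = l := by
  revert l
  intro l h h'
  interval_cases l <;> decide

theorem digits_mem_Vp : ∀ {w : List ℕ}, (∀ l ∈ w, 36 ≤ l ∧ l < 48) → pW w ∈ Vp
  | [], _ => by rw [pW_nil]; exact one_mem _
  | l :: w, h => by
    rw [← List.singleton_append, pW_append]
    refine mul_mem ?_ (digits_mem_Vp fun x hx => h x (List.mem_cons_of_mem _ hx))
    obtain ⟨h1, h2⟩ := h l List.mem_cons_self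
    rcases Nat.even_or_odd l with ⟨j, hj⟩ | ⟨j, hj⟩
    · have := gen_mem_Vp (k := j - 18) (by omega)
      rwa [show 2 * (18 + (j - 18)) = l by omega] at this
    · have h0 := gen_mem_Vp (k := j - 18) (by omega)
      have h3 := pW_congr (letter_inv (2 * j) (by omega))
      rw [← List.singleton_append, pW_append, pW_nil] at h3
      have hb : Nat.beq (2 * j % 2) 0 = true := by rw [Nat.mul_mod_right]; rfl
      rw [if_pos hb] at h3
      rw [show 2 * (18 + (j - 18)) = 2 * j by omega] at h0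
      rw [hj, eq_inv_of_mul_eq_one_left h3]
      exact inv_mem h0

theorem digits18_range : ∀ v < 729, ∀ l ∈ digitsW 18 v, 36 ≤ l ∧ l < 48 := by decide +kernel

theorem conj_letter {l : ℕ} (h : 18 ≤ l) (h' : l < 30) {x : P} (hx : x ∈ Vp) :
    pW [l] * x * (pW [l])⁻¹ ∈ Vp := by
  suffices hle : Vp ≤ Vp.comap (MulAut.conj (pW [l])).toMonoidHom by simpa using hle hx
  refine (Subgroup.closure_le _).2 ?_
  rintro y ⟨k, hk, rfl⟩
  obtain ⟨a, ha, rfl⟩ := letters_mem l h h'
  have hc := levi_checks a ha k hk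
  simp only [okLevi, Bool.and_eq_true] at hc
  have e := pW_congr hc.2
  rw [pW_append, pW_winv (fun x hx => by rw [List.mem_singleton] at hx; subst hx; omega)] at e
  rw [SetLike.mem_coe, Subgroup.mem_comap]
  show pW [_] * pW [2 * (18 + k)] * (pW [_])⁻¹ ∈ Vp
  rw [← List.singleton_append, pW_append] at e
  rw [e]
  exact digits_mem_Vp (digits18_range _ (Nat.le_of_ble_eq_true hc.1))

theorem conj_levi : ∀ {w : List ℕ}, (∀ l ∈ w, 18 ≤ l ∧ l < 30) → ∀ {x : P}, x ∈ Vp → (pW w)⁻¹ * x * pW w ∈ Vp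
  | [], _, x, hx => by simpa [pW_nil] using hx
  | l :: w, h, x, hx => by
    obtain ⟨h1, h2⟩ := h l List.mem_cons_self
    have h3 := pW_congr (letter_inv l (by omega))
    rw [← List.singleton_append, pW_append, pW_nil] at h3
    have key : (pW [l])⁻¹ * x * pW [l] ∈ Vp := by
      rw [← eq_inv_of_mul_eq_one_left h3, eq_inv_of_mul_eq_one_right h3]
      refine conj_letter ?_ ?_ hx <;> rcases Nat.even_or_odd l with ⟨j, hj⟩ | ⟨j, hj⟩
      · rw [if_pos (by rw [hj, ← two_mul, Nat.mul_mod_right]; rfl)]; omega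
      · rw [if_neg (by rw [hj, Nat.mul_add_mod]; decide)]; omega
      · rw [if_pos (by rw [hj, ← two_mul, Nat.mul_mod_right]; rfl)]; omega
      · rw [if_neg (by rw [hj, Nat.mul_add_mod]; decide)]; omega
    have := conj_levi (fun y hy => h y (List.mem_cons_of_mem _ hy)) key
    rw [← List.singleton_append, pW_append, _root_.mul_inv_rev]
    simpa only [mul_assoc] using this

theorem dec_negOne : dec (0, 9241421688590303745) = -1 := by decide +kernel

theorem class_checks {j v : ℕ} (hj : j < 7) (hv : v < 729) : okClass j v = true := by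
  interval_cases j
  exacts [class_checks0 v hv, class_checks1 v hv, class_checks2 v hv, class_checks3 v hv, class_checks4 v hv,
    class_checks5 v hv, class_checks6 v hv]

theorem peq_self (a : ℕ × ℕ) : peq a a = true := by simp [peq]

theorem cube_peq {w : List ℕ} (hw : wok w = true) (h3 : pW w ^ 3 = 1) :
    peq (pnormalise (evW (w ++ w ++ w))) (pnormalise pone) = true ∨
      peq (pnormalise (evW (w ++ w ++ w))) (pnormalise (0, 9241421688590303745)) = true := by
  have hw' : wok (w ++ w ++ w) = true := by simp [wok, List.all_append] at hw ⊢; exact hw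
  have e : sW (w ++ w ++ w) ∈ Subgroup.center ↥Om := by
    have h : pW (w ++ w ++ w) = 1 := by rw [pW_append, pW_append, ← h3, pow_three, mul_assoc]
    exact (QuotientGroup.eq_one_iff _).1 h
  rcases center_sign e with h | h <;> rw [mt_word hw'] at h
  · exact Or.inl (by rw [pnormalise_eq (h.trans dec_pone.symm)]; exact peq_self _)
  · exact Or.inr (by rw [pnormalise_eq (h.trans dec_negOne.symm)]; exact peq_self _)

/-- A representative in the simple group. -/
noncomputable def rep (i : ℕ) : P := pW (repW i)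

/-- Every element of order three is conjugate to a representative. -/
theorem exists_rep {x : P} (hx : orderOf x = 3) : ∃ i < 13, ∃ g : P, g * x * g⁻¹ = rep i := by
  obtain ⟨c, rfl⟩ := eD.surjective x
  rw [MulEquiv.orderOf_eq] at hx
  obtain ⟨g₀, hg₀⟩ := exists_conj_mem_UC hx
  obtain ⟨u, hu, v, hv, huv⟩ := UC_word hg₀
  have hru := red_checks u hu
  simp only [okRed, Bool.and_eq_true] at hru
  obtain ⟨⟨hj, hlev⟩, hconj⟩ := hru
  set j := (redTab.getD u (0, 0)).1
  set w := word (redTab.getD u (0, 0)).2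
  have hj' : j < 7 := Nat.le_of_ble_eq_true hj
  have hlev' : ∀ l ∈ w, 18 ≤ l ∧ l < 30 := fun l hl => by
    have := List.all_eq_true.1 hlev l hl
    rw [Bool.and_eq_true] at this
    exact ⟨Nat.le_of_ble_eq_true this.1, Nat.le_of_ble_eq_true this.2⟩
  have eu := pW_conj hconj
  have hdv : pW (digitsW 18 v) ∈ Vp := digits_mem_Vp (digits18_range v hv)
  obtain ⟨v', hv', ev'⟩ := eq_digits_of_mem_Vp (conj_levi hlev' hdv)
  have hwu : ∀ l ∈ uW u v, l < 48 := fun l hl => by
    rw [uW, List.mem_append] at hl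
    rcases hl with hl | hl
    exacts [wok_lt (wok_uW u hu).2 l hl, wok_lt (wok_uW v hv).1 l hl]
  set x := eD c
  have hconj1 : (pW w)⁻¹ * eD g₀ * x * ((pW w)⁻¹ * eD g₀)⁻¹ = pW (uW (uRep.getD j 0) v') := by
    rw [uW, pW_append, ← ev']
    have h := congrArg eD huv
    rw [map_mul, map_mul, map_inv, eD_cW hwu, uW, pW_append, eu] at h
    calc (pW w)⁻¹ * eD g₀ * x * ((pW w)⁻¹ * eD g₀)⁻¹ = (pW w)⁻¹ * (eD g₀ * eD c * (eD g₀)⁻¹) * pW w := by group; rfl
      _ = _ := by rw [h]; group
  have hck := class_checks hj' hv'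
  unfold okClass at hck
  dsimp only at hck
  set e := (classTab.getD j []).getD v' (0, 0)
  set z := uW (uRep.getD j 0) v'
  have hz : orderOf (pW z) = 3 := by
    rw [← hconj1, ← MulAut.conj_apply, MulEquiv.orderOf_eq, MulEquiv.orderOf_eq, hx]
  split at hck
  · simp only [Bool.and_eq_true, Bool.or_eq_true, Bool.not_eq_true', List.isEmpty_iff] at hck
    exfalso
    rcases hck.2 with h0 | ⟨h1, h2⟩
    · rw [h0, pW_nil, orderOf_one] at hz
      exact absurd hz (by norm_num)
    · rcases cube_peq hck.1 (by have h := pow_orderOf_eq_one (pW z); rwa [hz] at h) with h | h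
      · rw [h] at h1; exact Bool.noConfusion h1
      · rw [h] at h2; exact Bool.noConfusion h2
  · rename_i h0
    simp only [Bool.and_eq_true] at hck
    have h13 : e.1 ≤ 13 := Nat.le_of_ble_eq_true hck.1
    have hne : e.1 ≠ 0 := fun h => h0 (by rw [h]; rfl)
    refine ⟨e.1 - 1, by omega, (pW (word e.2))⁻¹ * ((pW w)⁻¹ * eD g₀), ?_⟩
    have h := pW_conj hck.2
    rw [← hconj1] at h
    rw [rep]
    calc _ = (pW (word e.2))⁻¹ * ((pW w)⁻¹ * eD g₀ * x * ((pW w)⁻¹ * eD g₀)⁻¹) * pW (word e.2) := by group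
      _ = _ := by rw [h]; group

end Cfsg.OEightThree
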